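import Groth.Agent.Etbc.H187.AcycDecomp
import Groth.Agent.Sga1.UlaSL
import Mathlib.RingTheory.AdicCompletion.Completeness
import Mathlib.RingTheory.Henselian

/-!
# Universally locally `1`-acyclic morphisms for `p` in characteristic `p`

If `g : X ⟶ Y` is universally locally `n`-acyclic for `L`, `n ≥ 1`, `p ∈ L`, then the residue fields of the
fibre of `g` over an algebraically closed field `k` of characteristic `p` are all equal to `k`.
-/

set_option autoImplicit false
universe u
open CategoryTheory CategoryTheory.Limits AlgebraicGeometry Opposite IsLocalRing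

namespace Groth.Agent.Etbc.H187.PI

open Groth.Agent.Etrest.StrictLoc Groth.Agent.Sga1.UlaSL

section PowerSeries

variable (K : Type u) [Field K]

theorem henselian_powerSeries : HenselianLocalRing (PowerSeries K) := by
  have h : HenselianRing (PowerSeries K) (maximalIdeal (PowerSeries K)) := by
    rw [PowerSeries.maximalIdeal_eq_span_X]
    infer_instance
  exact { is_henselian := fun f hf a₀ h1 h2 => by
            have h3 : IsUnit (Ideal.Quotient.mk (maximalIdeal (PowerSeries K))
              (f.derivative.eval a₀)) := h2.map _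
            exact h.is_henselian f hf a₀ h1 h3 }

theorem residue_surjective' : Function.Surjective
    ((residue (PowerSeries K)).comp (PowerSeries.C (R := K))) := by
  intro x
  obtain ⟨y, rfl⟩ := residue_surjective x
  refine ⟨PowerSeries.constantCoeff y, ?_⟩
  rw [RingHom.comp_apply, ← sub_eq_zero, ← map_sub, residue_eq_zero_iff, mem_maximalIdeal,
    mem_nonunits_iff, PowerSeries.isUnit_iff_constantCoeff, map_sub, PowerSeries.constantCoeff_C,
    sub_self]
  exact not_isUnit_zero

/-- The residue field of `K⟦X⟧` is `K`. -/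
noncomputable def residueEquiv : K ≃+* ResidueField (PowerSeries K) :=
  RingEquiv.ofBijective ((residue (PowerSeries K)).comp (PowerSeries.C (R := K)))
    ⟨RingHom.injective _, residue_surjective' K⟩

theorem isSepClosed_residueField [IsSepClosed K] : IsSepClosed (ResidueField (PowerSeries K)) :=
  Groth.Agent.Hensel.Exist.isSepClosed_of_ringEquiv (residueEquiv K).symm

theorem isLocalHom_map {K K' : Type u} [Field K] [Field K'] (φ : K →+* K') :
    IsLocalHom (PowerSeries.map φ) := by
  refine ⟨fun f hf => ?_⟩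
  rw [PowerSeries.isUnit_iff_constantCoeff] at hf ⊢
  rw [← PowerSeries.coeff_zero_eq_constantCoeff_apply, PowerSeries.coeff_map,
    PowerSeries.coeff_zero_eq_constantCoeff_apply] at hf
  exact (isUnit_map_iff φ _).1 hf

end PowerSeries

/-- Local acyclicity in terms of `IsStrictLoc`. -/
theorem isAcyclicN_of_isStrictLoc {X₁ Y₁ : Scheme.{u}} {g₁ : X₁ ⟶ Y₁} {L : Set ℕ} {n : ℕ}
    (h : EtAcyc.IsLocAcyclicN g₁ L n) {D R : Type u} [CommRing D] [IsLocalRing D] [CommRing R]
    [IsLocalRing R] {τX : Spec (CommRingCat.of D) ⟶ X₁} (hX : IsStrictLoc τX)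
    {τY : Spec (CommRingCat.of R) ⟶ Y₁} (hY : IsStrictLoc τY) (φ : R →+* D) [IsLocalHom φ]
    (hφ : spm φ ≫ τY = τX ≫ g₁) : EtAcyc.IsAcyclicN (spm φ) L n := by
  obtain ⟨algX, locX, hensX, eX⟩ := exists_specOf hX (τX (closedPoint D)) rfl
  have hpt : τY (closedPoint R) = g₁ (τX (closedPoint D)) := by
    have h1 : (spm φ ≫ τY) (closedPoint D) = (τX ≫ g₁) (closedPoint D) := by rw [hφ]
    rw [← closedPoint_map φ]
    exact h1
  obtain ⟨algY, locY, hensY, eY⟩ := exists_specOf hY (g₁ (τX (closedPoint D))) hpt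
  let _ : Algebra R D := φ.toAlgebra
  have : IsLocalHom (algebraMap R D) := inferInstanceAs (IsLocalHom φ)
  refine h (τX (closedPoint D)) R D ?_
  refine (Groth.Agent.Etrest.VCBaseChange.specOf_comm g₁ (τX (closedPoint D)) R D φ).2 ?_
  rw [eX, eY]
  exact hφ

/-- Constants. -/
theorem exists_const {W : Scheme.{u}} (c : W) {D P κ : Type u} [CommRing D] [IsLocalRing D]
    [CommRing P] [IsLocalRing P] [Field κ] (d : Spec (CommRingCat.of D) ⟶ W) (j : D →+* P)
    [IsLocalHom j] (i : W.residueField c →+* κ) (C : κ →+* P)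
    (h : spm j ≫ d = spm C ≫ Spec.map (CommRingCat.ofHom i) ≫ W.fromSpecResidueField c)
    (α : W.residueField c) :
    ∃ a : D, j a = C (i α) := by
  have hc : d (closedPoint D) = c := by
    have h1 : (spm j ≫ d) (closedPoint P) =
        (spm C ≫ Spec.map (CommRingCat.ofHom i) ≫ W.fromSpecResidueField c) (closedPoint P) := by
      rw [h]
    rw [← closedPoint_map j]
    refine Eq.trans h1 ?_
    exact Scheme.fromSpecResidueField_apply c _
  obtain ⟨φ, hφl, hφ⟩ := exists_stalk_hom d c hc
  obtain ⟨s, rfl⟩ := W.residue_surjective c α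
  refine ⟨φ s, ?_⟩
  have h2 : spm (j.comp φ) ≫ W.fromSpecStalk c =
      spm (C.comp (i.comp (W.residue c).hom)) ≫ W.fromSpecStalk c := by
    rw [spm_comp, spm_comp, Category.assoc, Category.assoc]
    refine (congrArg (fun k => spm j ≫ k) hφ).trans (h.trans ?_)
    rw [spm_comp, Category.assoc]
    rfl
  rw [cancel_mono, spm_inj] at h2
  exact congrArg (fun k => k s) h2

/-- **Residue fields of geometric fibres in characteristic `p ∈ L`.** -/
theorem surjective_residue {X Y : Scheme.{u}} {g : X ⟶ Y} {L : Set ℕ} {n : ℕ}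
    (hg : EtAcyc.IsULocAcyclicN g L n) (hn : 1 ≤ n) (p : ℕ) [Fact p.Prime] (hpL : p ∈ L)
    {k : Type u} [Field k] [IsAlgClosed k] [CharP k p] (y : Spec (CommRingCat.of k) ⟶ Y)
    {X₀ : Scheme.{u}} (b : X₀ ⟶ X) (π : X₀ ⟶ Spec (CommRingCat.of k)) (sq : IsPullback b π g y)
    (c : X₀) (ρ : k →+* X₀.residueField c)
    (hρ : Spec.map (CommRingCat.ofHom ρ) = X₀.fromSpecResidueField c ≫ π) :
    Function.Surjective ρ := by
  let κ := AlgebraicClosure (X₀.residueField c)
  let i : X₀.residueField c →+* κ := algebraMap _ _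
  let φ : k →+* κ := i.comp ρ
  have : CharP κ p := charP_of_injective_ringHom φ.injective p
  have hφ : ∀ z : κ, z ^ p ∈ φ.range → z ∈ φ.range := by
    rintro z ⟨a, ha⟩
    obtain ⟨b, hb⟩ := IsAlgClosed.exists_pow_nat_eq a (Nat.Prime.pos (Fact.out : p.Prime))
    refine ⟨b, ?_⟩
    have h1 : (φ b) ^ p = z ^ p := by rw [← map_pow, hb, ha]
    exact frobenius_inj κ p h1
  let st : Spec (CommRingCat.of (PowerSeries k)) ⟶ Spec (CommRingCat.of k) :=
    spm (PowerSeries.C (R := k))
  have sqT := IsPullback.of_hasPullback π st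
  have hloc := hg _ _ _ (sqT.paste_horiz sq)
  let pr1 := pullback.fst π st
  let gT := pullback.snd π st
  let m : Spec (CommRingCat.of (PowerSeries κ)) ⟶ pullback π st :=
    pullback.lift (spm (PowerSeries.C (R := κ)) ≫ Spec.map (CommRingCat.ofHom i) ≫
      X₀.fromSpecResidueField c) (spm (PowerSeries.map φ)) (by
        rw [Category.assoc, Category.assoc, ← hρ, ← spm_comp, ← Spec.map_comp,
          ← CommRingCat.ofHom_comp, ← spm_comp, spm_inj]
        ext x
        simp [φ])
  have hm1 : m ≫ pr1 = spm (PowerSeries.C (R := κ)) ≫ Spec.map (CommRingCat.ofHom i) ≫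
      X₀.fromSpecResidueField c := pullback.lift_fst _ _ _
  have hm2 : m ≫ gT = spm (PowerSeries.map φ) := pullback.lift_snd _ _ _
  obtain ⟨D, _, _, δ, hδ, hδc⟩ := exists_isStrictLoc (pullback π st) (m (closedPoint (PowerSeries κ)))
  have i1 := henselian_powerSeries κ
  have i2 := isSepClosed_residueField κ
  have i3 := henselian_powerSeries k
  have i4 := isSepClosed_residueField k
  obtain ⟨j, hjl, hj⟩ := Groth.Agent.Etrest.VCBaseChange.exists_map hδ m hδc.symm
  let ψ : PowerSeries k →+* D := (Spec.preimage (δ ≫ gT)).hom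
  have hψ : spm ψ = δ ≫ gT := Spec.map_preimage (δ ≫ gT)
  have hjψ : j.comp ψ = PowerSeries.map φ := by
    rw [← spm_inj, spm_comp, hψ, ← Category.assoc, hj, hm2]
  have hψl : IsLocalHom ψ := by
    have : IsLocalHom (j.comp ψ) := by
      rw [hjψ]
      exact isLocalHom_map φ
    exact isLocalHom_of_comp ψ j
  have hac : EtAcyc.IsAcyclicN (spm ψ) L n :=
    isAcyclicN_of_isStrictLoc hloc hδ (isStrictLoc_id (PowerSeries k)) ψ
      (by rw [Category.comp_id, hψ])
  intro α
  obtain ⟨a, ha⟩ := exists_const c (δ ≫ pr1) j i (PowerSeries.C (R := κ))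
    (by rw [← Category.assoc, hj, hm1]) α
  obtain ⟨a', ha'⟩ := AcycDecomp.mem_range_of_acyclic p φ hφ j ψ hjψ hn hpL hac a (i α) ha
  exact ⟨a', i.injective ha'⟩

end Groth.Agent.Etbc.H187.PI
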