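import Mathlib.RingTheory.LaurentSeries
import Mathlib.RingTheory.PowerSeries.Expand
import Mathlib.RingTheory.MvPowerSeries.Expand

/-!
# An Artin–Schreier computation with Laurent series

`k → κ` fields of characteristic `p`, `k` perfect.  If `α X⁻¹ ∈ κ((X))` is a sum of an element of
`k((X))` and `t ^ p - t` then `α ∈ k`.
-/

set_option autoImplicit false
universe u v

open LaurentSeries HahnSeries

namespace Groth.Agent.Etbc.H187.ArtSchK

variable {k : Type u} {κ : Type v} [Field k] [Field κ] (p : ℕ) [hp : Fact p.Prime] [CharP κ p]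

theorem coeff_pow_mul (f : PowerSeries κ) (a : ℕ) :
    PowerSeries.coeff (p * a) (f ^ p) = (PowerSeries.coeff a f) ^ p := by
  have h : (PowerSeries.map (frobenius κ p) (PowerSeries.expand p hp.out.ne_zero f)) = f ^ p :=
    MvPowerSeries.map_frobenius_expand p hp.out.ne_zero
  rw [← h, PowerSeries.coeff_map, PowerSeries.coeff_expand_mul, frobenius_def]

theorem coeff_pow_of_not_dvd (f : PowerSeries κ) (a : ℕ) (ha : ¬ p ∣ a) :
    PowerSeries.coeff a (f ^ p) = 0 := by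
  have h : (PowerSeries.map (frobenius κ p) (PowerSeries.expand p hp.out.ne_zero f)) = f ^ p :=
    MvPowerSeries.map_frobenius_expand p hp.out.ne_zero
  rw [← h, PowerSeries.coeff_map, PowerSeries.coeff_expand_of_not_dvd p hp.out.ne_zero f ha,
    map_zero]

theorem exists_shift (R : Type*) [CommRing R] (t : R⸨X⸩) : ∃ (N : ℕ) (f : PowerSeries R),
    t * single (N : ℤ) 1 = (f : R⸨X⸩) := by
  obtain ⟨⟨f, ⟨s, N, hs⟩⟩, hf⟩ := IsLocalization.surj (Submonoid.powers (PowerSeries.X : PowerSeries R)) t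
  refine ⟨N, f, ?_⟩
  have h1 : (algebraMap (PowerSeries R) R⸨X⸩) s = single (N : ℤ) 1 := by
    rw [← hs]
    change HahnSeries.ofPowerSeries ℤ R (PowerSeries.X ^ N) = _
    rw [map_pow, HahnSeries.ofPowerSeries_X, HahnSeries.single_pow]
    simp
  rw [← h1]
  exact hf

theorem coeff_shift {R : Type*} [CommRing R] {t : R⸨X⸩} {N : ℕ} {f : PowerSeries R}
    (h : t * single (N : ℤ) 1 = (f : R⸨X⸩)) (m : ℤ) : t.coeff m = (f : R⸨X⸩).coeff (m + N) := by
  rw [← h, HahnSeries.coeff_mul_single_add, mul_one]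

theorem coeff_pow_mul' (t : κ⸨X⸩) (j : ℤ) : (t ^ p).coeff (p * j) = (t.coeff j) ^ p := by
  obtain ⟨N, f, hf⟩ := exists_shift κ t
  have hf2 : t ^ p * single ((p * N : ℕ) : ℤ) 1 = ((f ^ p : PowerSeries κ) : κ⸨X⸩) := by
    rw [PowerSeries.coe_pow, ← hf, mul_pow, HahnSeries.single_pow]
    simp
  rw [coeff_shift hf, coeff_shift hf2, PowerSeries.coeff_coe, PowerSeries.coeff_coe]
  have h1 : (p : ℤ) * j + ((p * N : ℕ) : ℤ) = p * (j + N) := by push_cast; ring
  have hp0 : (0 : ℤ) < p := by exact_mod_cast hp.out.pos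
  rw [h1]
  by_cases h2 : j + N < 0
  · rw [if_pos h2, if_pos (mul_neg_of_pos_of_neg hp0 h2), zero_pow hp.out.ne_zero]
  · rw [if_neg h2, if_neg (not_lt.2 (mul_nonneg hp0.le (not_lt.1 h2))), Int.natAbs_mul,
      Int.natAbs_natCast, coeff_pow_mul]

theorem coeff_pow_of_not_dvd' (t : κ⸨X⸩) (m : ℤ) (hm : ¬ (p : ℤ) ∣ m) : (t ^ p).coeff m = 0 := by
  obtain ⟨N, f, hf⟩ := exists_shift κ t
  have hf2 : t ^ p * single ((p * N : ℕ) : ℤ) 1 = ((f ^ p : PowerSeries κ) : κ⸨X⸩) := by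
    rw [PowerSeries.coe_pow, ← hf, mul_pow, HahnSeries.single_pow]
    simp
  rw [coeff_shift hf2, PowerSeries.coeff_coe]
  split_ifs with h
  · rfl
  · refine coeff_pow_of_not_dvd p f _ fun hd => hm ?_
    have h2 : (p : ℤ) ∣ m + ((p * N : ℕ) : ℤ) := Int.natCast_dvd.2 hd
    rw [Nat.cast_mul] at h2
    exact (Int.dvd_add_left (dvd_mul_right _ _)).1 h2

/-- A Laurent series has no coefficients in very negative degrees. -/
theorem exists_forall_coeff_eq_zero (t : κ⸨X⸩) : ∃ N : ℕ, ∀ m : ℤ, m < -(N : ℤ) → t.coeff m = 0 := by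
  obtain ⟨N, f, hf⟩ := exists_shift κ t
  refine ⟨N, fun m hm => ?_⟩
  rw [coeff_shift hf, PowerSeries.coeff_coe, if_pos (by omega)]

/-- **The Artin–Schreier computation.** -/
theorem mem_range (φ : k →+* κ) (hφ : ∀ z : κ, z ^ p ∈ φ.range → z ∈ φ.range) (α : κ)
    (b t : κ⸨X⸩) (hb : ∀ m, b.coeff m ∈ φ.range)
    (h : single (-1 : ℤ) α = b + (t ^ p - t)) : α ∈ φ.range := by
  have key : ∀ j : ℕ, t.coeff (-((p : ℤ) ^ j)) ∈ φ.range := by
    obtain ⟨N, hN⟩ := exists_forall_coeff_eq_zero t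
    have hstep : ∀ j : ℕ, t.coeff (-((p : ℤ) ^ (j + 1))) ∈ φ.range →
        t.coeff (-((p : ℤ) ^ j)) ∈ φ.range := by
      intro j hj
      have h1 := congrArg (fun s : κ⸨X⸩ => s.coeff (-((p : ℤ) ^ (j + 1)))) h
      have h2 : (-((p : ℤ) ^ (j + 1))) = (p : ℤ) * (-((p : ℤ) ^ j)) := by ring
      have h3 : (-((p : ℤ) ^ (j + 1))) ≠ -1 := by
        intro h4
        have h5 : (p : ℤ) ^ (j + 1) = 1 := by linarith
        have h6 : p ^ (j + 1) = 1 := by exact_mod_cast h5
        exact hp.out.one_lt.ne' (Nat.pow_eq_one.1 h6 |>.resolve_right (by omega))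
      simp only [HahnSeries.coeff_add, HahnSeries.coeff_sub] at h1
      rw [HahnSeries.coeff_single_of_ne h3] at h1
      apply hφ
      have h4 : (t ^ p).coeff (-((p : ℤ) ^ (j + 1))) = (t.coeff (-((p : ℤ) ^ j))) ^ p := by
        rw [h2, coeff_pow_mul']
      rw [← h4]
      have h5 : (t ^ p).coeff (-((p : ℤ) ^ (j + 1))) =
          t.coeff (-((p : ℤ) ^ (j + 1))) - b.coeff (-((p : ℤ) ^ (j + 1))) := by
        linear_combination -h1
      rw [h5]
      exact sub_mem hj (hb _)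
    have hbig : ∀ j : ℕ, N < p ^ j → t.coeff (-((p : ℤ) ^ j)) ∈ φ.range := by
      intro j hj
      rw [hN]
      · exact zero_mem _
      · have : (N : ℤ) < (p : ℤ) ^ j := by exact_mod_cast hj
        linarith
    have hdown : ∀ d j : ℕ, t.coeff (-((p : ℤ) ^ (j + d))) ∈ φ.range →
        t.coeff (-((p : ℤ) ^ j)) ∈ φ.range := by
      intro d
      induction d with
      | zero => intro j hj; exact hj
      | succ d ih =>
        intro j hj
        exact hstep j (ih (j + 1) (by rwa [show j + 1 + d = j + (d + 1) by ring]))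
    intro j
    refine hdown N j (hbig _ ?_)
    calc N < p ^ N := Nat.lt_pow_self hp.out.one_lt
      _ ≤ p ^ (j + N) := Nat.pow_le_pow_right hp.out.pos (by omega)
  have h1 := congrArg (fun s : κ⸨X⸩ => s.coeff (-1)) h
  simp only [HahnSeries.coeff_add, HahnSeries.coeff_sub] at h1
  have h2 : ¬ (p : ℤ) ∣ -1 := by
    intro hd
    rw [Int.dvd_neg] at hd
    have h3 : (p : ℤ) ∣ ((1 : ℕ) : ℤ) := by simpa using hd
    exact hp.out.one_lt.ne' (Nat.dvd_one.1 (Int.natCast_dvd_natCast.1 h3))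
  rw [HahnSeries.coeff_single_same, coeff_pow_of_not_dvd' p t _ h2, zero_sub] at h1
  rw [h1]
  have h3 := key 0
  rw [pow_zero] at h3
  exact add_mem (hb _) (neg_mem h3)

/-- The extension of `PowerSeries.map φ` to Laurent series. -/
noncomputable def mapL (φ : k →+* κ) : k⸨X⸩ →+* κ⸨X⸩ :=
  IsLocalization.Away.lift (S := k⸨X⸩) (PowerSeries.X : PowerSeries k)
    (g := (algebraMap (PowerSeries κ) κ⸨X⸩).comp (PowerSeries.map φ)) (by
      rw [RingHom.comp_apply, PowerSeries.map_X]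
      exact IsLocalization.Away.algebraMap_isUnit (S := κ⸨X⸩) (PowerSeries.X : PowerSeries κ))

theorem mapL_comp (φ : k →+* κ) : (mapL φ).comp (algebraMap (PowerSeries k) k⸨X⸩) =
    (algebraMap (PowerSeries κ) κ⸨X⸩).comp (PowerSeries.map φ) :=
  IsLocalization.Away.lift_comp _ _

theorem mapL_coe (φ : k →+* κ) (r : PowerSeries k) :
    mapL φ (r : k⸨X⸩) = (PowerSeries.map φ r : PowerSeries κ) :=
  congrArg (fun q : PowerSeries k →+* κ⸨X⸩ => q r) (mapL_comp φ)

theorem mapL_single (φ : k →+* κ) (N : ℤ) : mapL φ (single N 1) = single N 1 := by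
  have hnat : ∀ N : ℕ, mapL φ (single (N : ℤ) 1) = single (N : ℤ) 1 := by
    intro N
    have h2 := mapL_coe φ (PowerSeries.X ^ N)
    have h5 : PowerSeries.map φ (PowerSeries.X ^ N) = PowerSeries.X ^ N := by
      rw [map_pow, PowerSeries.map_X]
    rw [h5] at h2
    have h3 : ((PowerSeries.X ^ N : PowerSeries k) : k⸨X⸩) = single (N : ℤ) 1 := by
      change HahnSeries.ofPowerSeries ℤ k (PowerSeries.X ^ N) = _
      rw [map_pow, HahnSeries.ofPowerSeries_X, HahnSeries.single_pow]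
      simp
    have h4 : ((PowerSeries.X ^ N : PowerSeries κ) : κ⸨X⸩) = single (N : ℤ) 1 := by
      change HahnSeries.ofPowerSeries ℤ κ (PowerSeries.X ^ N) = _
      rw [map_pow, HahnSeries.ofPowerSeries_X, HahnSeries.single_pow]
      simp
    rw [h3, h4] at h2
    exact h2
  rcases le_total 0 N with h | h
  · lift N to ℕ using h
    exact hnat N
  · obtain ⟨M, rfl⟩ : ∃ M : ℕ, N = -(M : ℤ) := ⟨N.natAbs, by omega⟩
    have h1 : (single (-(M : ℤ)) 1 : k⸨X⸩) * single (M : ℤ) 1 = 1 := by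
      rw [HahnSeries.single_mul_single, neg_add_cancel, mul_one]
      rfl
    have h2 : (single (-(M : ℤ)) 1 : κ⸨X⸩) * single (M : ℤ) 1 = 1 := by
      rw [HahnSeries.single_mul_single, neg_add_cancel, mul_one]
      rfl
    have h3 : mapL φ (single (-(M : ℤ)) 1) * single (M : ℤ) 1 =
        single (-(M : ℤ)) 1 * single (M : ℤ) 1 := by
      rw [← hnat, ← RingHom.map_mul, h1, RingHom.map_one, hnat, h2]
    have h4 : (single (M : ℤ) 1 : κ⸨X⸩) ≠ 0 := HahnSeries.single_ne_zero one_ne_zero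
    exact mul_right_cancel₀ h4 h3

theorem coeff_mapL (φ : k →+* κ) (b : k⸨X⸩) (m : ℤ) : (mapL φ b).coeff m = φ (b.coeff m) := by
  obtain ⟨N, f, hf⟩ := exists_shift k b
  have hf2 : mapL φ b * single (N : ℤ) 1 = ((PowerSeries.map φ f : PowerSeries κ) : κ⸨X⸩) := by
    rw [← mapL_coe, ← hf, map_mul, mapL_single]
  rw [coeff_shift hf, coeff_shift hf2, PowerSeries.coeff_coe, PowerSeries.coeff_coe]
  split_ifs with h
  · rw [map_zero]
  · rw [PowerSeries.coeff_map]

theorem mem_range_mapL (φ : k →+* κ) (hφ : ∀ z : κ, z ^ p ∈ φ.range → z ∈ φ.range) (α : κ)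
    (b : k⸨X⸩) (t : κ⸨X⸩) (h : single (-1 : ℤ) α = mapL φ b + (t ^ p - t)) : α ∈ φ.range :=
  mem_range p φ hφ α _ t (fun m => ⟨b.coeff m, (coeff_mapL φ b m).symm⟩) h

end Groth.Agent.Etbc.H187.ArtSchK
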