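import Groth.Agent.Etbc.H187.GaFun
import Groth.Agent.Etbc.H187.ArtSchK
import Groth.Agent.Etcore.HpullEq
import Groth.Agent.Etrest.ConstBasic
import Groth.Prelude.Def_EtAcyc

/-!
# Constants in strict localizations over `k⟦s⟧`, from acyclicity for `p` in characteristic `p`

`D` an algebra over `k⟦X⟧`, `k` perfect of characteristic `p ∈ L`, with a `k⟦X⟧`-map to `κ⟦X⟧`.  If
`Spec D ⟶ Spec k⟦X⟧` is `n`-acyclic for `L`, `n ≥ 1`, then the only constants `α ∈ κ` which are the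
images of elements of `D` are those of `k`.
-/

set_option autoImplicit false
universe u
open CategoryTheory CategoryTheory.Limits AlgebraicGeometry Opposite Abelian
open scoped Groth.Agent.Etcore.EtInst Groth.Agent.Etcore.HC
open Groth.Agent.Etcore Groth.Agent.Etcore.EtInst Groth.Agent.Etcore.PullCoh
open Groth.Agent.Etcore.HpullCalc Groth.Agent.Etcore.HC
open Groth.Agent.CurvesA Groth.Agent.CurvesA.ArtinSchreier
open LaurentSeries HahnSeries

namespace Groth.Agent.Etbc.H187.AcycDecomp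

theorem isLTorsion_const {L : Set ℕ} {p : ℕ} (hp : p.Prime) (hpL : p ∈ L) (X : Scheme.{u}) :
    EtAcyc.IsLTorsion L (EtCoh.const X (ZMod p)) := by
  intro U s x
  refine ⟨U, 𝟙 U, p, ⟨x, rfl⟩, ⟨hp.pos, fun q hq hqp => ?_⟩, ?_⟩
  · rwa [(Nat.prime_dvd_prime_iff_eq hq hp).1 hqp]
  · exact Groth.Agent.Etrest.ConstBasic.killedBy_const X (ZMod p) p
      (fun a => by rw [nsmul_eq_mul, CharP.cast_eq_zero, zero_mul]) U _

/-- Surjectivity in degree one for the constant sheaf `ℤ/p`. -/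
theorem surjective_hp {X Y : Scheme.{u}} {f : X ⟶ Y} {L : Set ℕ} {n : ℕ}
    (h : EtAcyc.IsAcyclicN f L n) (hn : 1 ≤ n) {p : ℕ} (hp' : p.Prime) (hpL : p ∈ L) (V : Y.Etale) :
    Function.Surjective (hp (EtAcyc.prj f V) (EtCoh.const V.left (ZMod p)) 1) :=
  (surjective_Hpull_iff _ _ _).1 ((h V _ (isLTorsion_const hp' hpL V.left)).1 1 hn).2

/-- Functions pulled back along a factorization of a morphism of affine schemes. -/
theorem ev_apply {A B : Type u} [CommRing A] [CommRing B] {P : Scheme.{u}}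
    (w : Spec (CommRingCat.of B) ⟶ P) (q : P ⟶ Spec (CommRingCat.of A)) (θ : A →+* B)
    (h : w ≫ q = Spec.map (CommRingCat.ofHom θ)) (x : A) :
    (Scheme.ΓSpecIso (CommRingCat.of B)).hom.hom (w.appTop.hom
      (q.appTop.hom ((Scheme.ΓSpecIso (CommRingCat.of A)).inv.hom x))) = θ x := by
  have h1 : q.appTop ≫ w.appTop = (Spec.map (CommRingCat.ofHom θ)).appTop := by
    rw [← h]
    exact (Scheme.Hom.comp_appTop w q).symm
  have h2 := congrArg (fun k => k.hom ((Scheme.ΓSpecIso (CommRingCat.of A)).inv.hom x)) h1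
  refine (congrArg (Scheme.ΓSpecIso (CommRingCat.of B)).hom.hom h2).trans ?_
  have h3 := Scheme.ΓSpecIso_naturality (CommRingCat.ofHom θ)
  have h4 := congrArg (fun k => k.hom ((Scheme.ΓSpecIso (CommRingCat.of A)).inv.hom x)) h3
  refine Eq.trans h4 ?_
  have h5 : (Scheme.ΓSpecIso (CommRingCat.of A)).hom.hom
      ((Scheme.ΓSpecIso (CommRingCat.of A)).inv.hom x) = x :=
    congrArg (fun k => k.hom x) (Scheme.ΓSpecIso (CommRingCat.of A)).inv_hom_id
  exact congrArg θ h5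

variable (p : ℕ) [hp0 : Fact p.Prime]

theorem mem_range_of_acyclic {k κ D : Type u} [Field k] [Field κ] [CommRing D] [CharP k p]
    [CharP κ p] (φ : k →+* κ) (hφ : ∀ z : κ, z ^ p ∈ φ.range → z ∈ φ.range)
    (j : D →+* PowerSeries κ) (ψ : PowerSeries k →+* D) (hj : j.comp ψ = PowerSeries.map φ)
    {L : Set ℕ} {n : ℕ} (hn : 1 ≤ n) (hpL : p ∈ L)
    (h : EtAcyc.IsAcyclicN (Spec.map (CommRingCat.ofHom ψ)) L n)
    (a : D) (α : κ) (ha : j a = PowerSeries.C α) : α ∈ φ.range := by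
  let ι : Spec (CommRingCat.of k⸨X⸩) ⟶ Spec (CommRingCat.of (PowerSeries k)) :=
    Spec.map (CommRingCat.ofHom (algebraMap (PowerSeries k) k⸨X⸩))
  have hι : IsOpenImmersion ι :=
    AlgebraicGeometry.IsOpenImmersion.of_isLocalization (PowerSeries.X : PowerSeries k)
  let V : (Spec (CommRingCat.of (PowerSeries k))).Etale :=
    MorphismProperty.Over.mk ⊤ ι (inferInstance : Etale ι)
  let g := Spec.map (CommRingCat.ofHom ψ)
  let P := pullback V.hom g
  let f : P ⟶ V.left := EtAcyc.prj g V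
  let q : P ⟶ Spec (CommRingCat.of D) := pullback.snd V.hom g
  have hsurj := surjective_hp h hn hp0.out hpL V
  have hY : (p : Γ(V.left, ⊤)) = 0 := by
    have h1 : (p : k⸨X⸩) = 0 := by
      have h2 := congrArg (HahnSeries.C (Γ := ℤ)) (CharP.cast_eq_zero k p)
      rwa [map_natCast, map_zero] at h2
    have h2 := congrArg (Scheme.ΓSpecIso (CommRingCat.of k⸨X⸩)).inv.hom h1
    rw [map_natCast, map_zero] at h2
    exact h2
  let w : Spec (CommRingCat.of κ⸨X⸩) ⟶ P :=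
    pullback.lift (Spec.map (CommRingCat.ofHom (ArtSchK.mapL φ)))
      (Spec.map (CommRingCat.ofHom ((algebraMap (PowerSeries κ) κ⸨X⸩).comp j))) (by
        change Spec.map _ ≫ Spec.map _ = Spec.map _ ≫ Spec.map _
        rw [← Spec.map_comp, ← Spec.map_comp, ← CommRingCat.ofHom_comp, ← CommRingCat.ofHom_comp,
          ArtSchK.mapL_comp, RingHom.comp_assoc, hj])
  have hw1 : w ≫ f = Spec.map (CommRingCat.ofHom (ArtSchK.mapL φ)) := pullback.lift_fst _ _ _
  have hw2 : w ≫ q = Spec.map (CommRingCat.ofHom ((algebraMap (PowerSeries κ) κ⸨X⸩).comp j)) :=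
    pullback.lift_snd _ _ _
  have haff : IsAffine V.left :=
    inferInstanceAs (IsAffine (Spec (CommRingCat.of k⸨X⸩)))
  obtain ⟨b, t, hbt⟩ := GaFun.exists_decomp p f hY hsurj
    (q.appTop.hom ((Scheme.ΓSpecIso (CommRingCat.of D)).inv.hom a) *
      f.appTop.hom ((Scheme.ΓSpecIso (CommRingCat.of k⸨X⸩)).inv.hom (single (-1 : ℤ) 1)))
  obtain ⟨b, rfl⟩ : ∃ b' : k⸨X⸩, (Scheme.ΓSpecIso (CommRingCat.of k⸨X⸩)).inv.hom b' = b :=
    ⟨(Scheme.ΓSpecIso (CommRingCat.of k⸨X⸩)).hom.hom b,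
      congrArg (fun k => k.hom b) (Scheme.ΓSpecIso (CommRingCat.of k⸨X⸩)).hom_inv_id⟩
  let ev : Γ(P, ⊤) →+* κ⸨X⸩ :=
    ((Scheme.ΓSpecIso (CommRingCat.of κ⸨X⸩)).hom.hom).comp w.appTop.hom
  have e1 : ∀ x, ev (q.appTop.hom ((Scheme.ΓSpecIso (CommRingCat.of D)).inv.hom x)) =
      algebraMap (PowerSeries κ) κ⸨X⸩ (j x) := fun x => ev_apply w q _ hw2 x
  have e2 : ∀ x, ev (f.appTop.hom ((Scheme.ΓSpecIso (CommRingCat.of k⸨X⸩)).inv.hom x)) =
      ArtSchK.mapL φ x := fun x => ev_apply w f _ hw1 x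
  have hev := congrArg ev hbt
  have e3 : single (-1 : ℤ) α = ArtSchK.mapL φ b + (ev t ^ p - ev t) := by
    have e4 := (map_mul ev _ _).symm.trans hev
    rw [e1, e2, ArtSchK.mapL_single, ha] at e4
    have e5 : algebraMap (PowerSeries κ) κ⸨X⸩ (PowerSeries.C α) = HahnSeries.C α := by
      change HahnSeries.ofPowerSeries ℤ κ (PowerSeries.C α) = _
      rw [HahnSeries.ofPowerSeries_C]
    have e6 : (HahnSeries.C α : κ⸨X⸩) * single (-1 : ℤ) 1 = single (-1 : ℤ) α := by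
      rw [HahnSeries.C_apply, HahnSeries.single_mul_single, zero_add, mul_one]
    rw [e5, e6] at e4
    refine e4.trans ?_
    rw [RingHom.map_add, RingHom.map_sub, RingHom.map_pow, e2]
  exact ArtSchK.mem_range_mapL p φ hφ α b (ev t) e3

end Groth.Agent.Etbc.H187.AcycDecomp
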