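import Groth.Agent.EtpbcB.BCStrict
import Groth.Agent.Etbc.H187.PullConnSub
import Groth.Agent.Etbc.H184.GenSubm

/-!
# Degree zero base change for abelian sheaves from the fibres of strict localizations

`isIso_baseChange0_of_strict` : `f : X ⟶ S` such that the morphisms `Spec O_X^sh ⟶ Spec O_S^sh` of
strict localizations are universally submersive with connected geometric fibres, and `g : T ⟶ S`
quasi-compact and quasi-separated: the degree zero base change map is an isomorphism.  (Version of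
`EtpbcB.BCStrict` without flatness.)
-/

set_option autoImplicit false
set_option backward.isDefEq.respectTransparency.types false
universe u
open CategoryTheory CategoryTheory.Limits AlgebraicGeometry Opposite

namespace Groth.Agent.Etbc.H187.BCStrictAb

open Groth.Agent.EtpbcB Groth.Agent.EtpbcB.Big Groth.Agent.EtpbcB.BCCrit
  Groth.Agent.EtpbcB.StrictLoc Groth.Agent.EtpbcB.Psi EtCoh
open Groth.Agent.EtpbcB.BCStrict hiding hsurj_strict isIso_baseChange0_of_strict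

variable {X S Y T : Scheme.{u}} {f : X ⟶ S} {g : T ⟶ S} {h : Y ⟶ X} {e : Y ⟶ T}

section Core

variable {Ω : Type u} [Field Ω] [IsSepClosed Ω] (ξ : Spec (CommRingCat.of Ω) ⟶ X)
variable (H : IsPullback e h g f) (F : EtCoh.Ab T)

/-- A local family on `Y ×_X U` comes, near a given point of `U`, from a section over `T ×_S V`. -/
theorem hsurj_strict [QuasiCompact g] [QuasiSeparated g]
    (hs : EtDesc.IsUnivSubmersive (psi f ξ))
    (hψ : ∀ (Ω' : Type u) [Field Ω'] [IsAlgClosed Ω']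
      (η : Spec (CommRingCat.of Ω') ⟶ Spec (Osh (ξ ≫ f))), ConnectedSpace ↥(pullback (psi f ξ) η))
    (U : X.Etale) (v : Fam F (((EtCoh.bc h).obj U).hom ≫ e)) (hv : IsLoc v)
    (l : Spec (CommRingCat.of Ω) ⟶ U.left) (hl : l ≫ U.hom = ξ) :
    ∃ (V : S.Etale) (U' : X.Etale) (a : U' ⟶ U) (b : U' ⟶ (EtCoh.bc f).obj V)
        (σ : EtCoh.sect F ((EtCoh.bc g).obj V)) (y' : U'.left), a.left y' = l default ∧
        v.res ((EtCoh.bc h).map a).left (by rw [← Category.assoc, et_w]) =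
          (fam σ).res (kap g f h e H.w b) (kap_hom g f h e H.w b) := by
  have hqc : QuasiCompact h := MorphismProperty.of_isPullback (P := @QuasiCompact) H ‹_›
  have hqs : QuasiSeparated h := MorphismProperty.of_isPullback (P := @QuasiSeparated) H ‹_›
  have hPs : Groth.Agent.Sga4A.EtStalk.EtSubmersive (P ξ H) :=
    Groth.Agent.Sga4A.EtStalk.etSubmersive_of_isUnivSubmersive _
      (Groth.Agent.Etbc.H184.GenSubm.isUnivSubmersive_of_isPullback (isPullback_P ξ H) hs)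
  obtain ⟨i₁, m, hm⟩ := exists_dom ξ U l hl
  -- the restriction to `Y ×_X Spec O_X^sh`
  have eA : (LX ξ h i₁ ≫ ((bc h).map m).left) ≫ ((bc h).obj U).hom ≫ e =
      pullback.fst h (toBase ξ) ≫ e := by
    rw [← Category.assoc, Category.assoc (LX ξ h i₁), et_w, LX_hom]
  obtain ⟨vS, hvS, hvS'⟩ := PullConnSub.exists_of_connected (P ξ H) (fun U => hPs U)
    (connected_P ξ H hψ) (P_fst ξ H) (v.res _ eA) (hv.res _ eA)
  obtain ⟨j, v', hv', hvv'⟩ := LimSec.exists_ext
    (coneX (ξ ≫ f) g (IsPullback.of_hasPullback g (toBase (ξ ≫ f))))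
    (isLimitConeX (ξ ≫ f) g (IsPullback.of_hasPullback g (toBase (ξ ≫ f))))
    (tau (ξ ≫ f) g) (fun j => LX_hom (ξ ≫ f) j) hvS
  obtain ⟨σ, hσ⟩ := FamSec.exists_fam (U := (bc g).obj ((D (ξ ≫ f)).obj j)) v' hv'
  -- a common étale neighbourhood of `ξ`
  obtain ⟨l₂, hl₂, hl₂'⟩ : ∃ l₂ : Spec (CommRingCat.of Ω) ⟶ ((bc f).obj ((D (ξ ≫ f)).obj j)).left,
      l₂ ≫ bcFst f ((D (ξ ≫ f)).obj j) = lft (ξ ≫ f) j ∧
      l₂ ≫ ((bc f).obj ((D (ξ ≫ f)).obj j)).hom = ξ :=
    ⟨bcPt f ξ (lft (ξ ≫ f) j) (lft_hom _ _), bcPt_fst f _ _ _, bcPt_hom f _ _ _⟩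
  obtain ⟨i₂, n, n', hn, hn'⟩ := exists_common ξ U ((bc f).obj ((D (ξ ≫ f)).obj j)) l hl l₂ hl₂'
  have hn2 : lft ξ i₂ ≫ n'.left ≫ bcFst f ((D (ξ ≫ f)).obj j) =
      lft (ξ ≫ f) j ≫ (𝟙 ((D (ξ ≫ f)).obj j) : _ ⟶ _).left := by
    refine Eq.trans ?_ (Category.comp_id _).symm
    rw [← hl₂, ← hn', Category.assoc]
  have hagree : (v.res ((bc h).map n).left (q' := ((bc h).obj ((D ξ).obj i₂)).hom ≫ e)
      (by rw [← Category.assoc, et_w])).res (LX ξ h i₂) rfl =
      ((fam σ).res (kap g f h e H.w n') (kap_hom g f h e H.w n')).res (LX ξ h i₂) rfl := by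
    have e1 : LX ξ h i₂ ≫ kap g f h e H.w n' = P ξ H ≫ LX (ξ ≫ f) g j := by
      rw [LX_kap ξ H n' (𝟙 _) hn2]
      refine congrArg (P ξ H ≫ ·) ?_
      rw [CategoryTheory.Functor.map_id]
      exact Category.comp_id _
    have e2 : LX ξ h i₂ ≫ ((bc h).map n).left = LX ξ h i₁ ≫ ((bc h).map m).left :=
      LX_map ξ n m (hn.trans hm.symm)
    have e3 : v.res (LX ξ h i₁ ≫ ((bc h).map m).left) eA =
      (fam σ).res (P ξ H ≫ LX (ξ ≫ f) g j) (by
        rw [Category.assoc, LX_hom, P_fst]) := by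
      rw [← hvS', ← hvv', hσ]
      ext Ω _ _ l ξ hl
      exact v'.congr (Category.assoc _ _ _) _
    ext Ω' _ _ l' ξ' hl''
    have h1 := Fam.congr_fun e3 l' (ξ := ξ') (by
      rw [← hl'', ← Category.assoc (LX ξ h i₂), LX_hom])
    refine (v.congr ?_ _).trans (h1.trans ((fam σ).congr ?_ _))
    · rw [Category.assoc, e2]
    · rw [Category.assoc, e1]
  obtain ⟨i₃, g₃, hg₃⟩ := LimSec.exists_agree
    (coneX ξ h (IsPullback.of_hasPullback h (toBase ξ)))
    (isLimitConeX ξ h (IsPullback.of_hasPullback h (toBase ξ)))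
    (hv.res _ _) ((isLoc_fam σ).res _ _) hagree
  refine ⟨(D (ξ ≫ f)).obj j, (D ξ).obj i₃, (D ξ).map g₃ ≫ n, (D ξ).map g₃ ≫ n', σ,
    lft ξ i₃ default, ?_, ?_⟩
  · have h1 : lft ξ i₃ ≫ ((D ξ).map g₃ ≫ n).left = l := by
      rw [← hn, ← lft_map ξ g₃, Category.assoc]
      rfl
    rw [← h1]
    rfl
  · exact res_eq_res hg₃ _ _ (by rw [Functor.map_comp]; rfl) (kap_comp H.w _ _).symm

end Core

/-- Degree zero base change: the maps of strict localizations of `f` are universally submersive with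
connected geometric fibres, `g` quasi-compact and quasi-separated. -/
theorem isIso_baseChange0_of_strict (H : IsPullback e h g f) [QuasiCompact g]
    [QuasiSeparated g]
    (hs : ∀ (Ω : Type u) [Field Ω] [IsSepClosed Ω] (ξ : Spec (CommRingCat.of Ω) ⟶ X),
      EtDesc.IsUnivSubmersive (psi f ξ))
    (hψ : ∀ (Ω : Type u) [Field Ω] [IsSepClosed Ω] (ξ : Spec (CommRingCat.of Ω) ⟶ X)
      (Ω' : Type u) [Field Ω'] [IsAlgClosed Ω']
      (η : Spec (CommRingCat.of Ω') ⟶ Spec (Osh (ξ ≫ f))), ConnectedSpace ↥(pullback (psi f ξ) η))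
    (F : EtCoh.Ab T) : IsIso (EtCoh.baseChange0 g f h e H.w F) := by
  refine isIso_baseChange0_of_fam g f h e H.w F ?_ ?_
  · intro V σ U b hσ y
    obtain ⟨Ω, _, _, l, hl⟩ := exists_geomPoint U.left y
    rw [← hl]
    exact hinj_strict (l ≫ U.hom) H F (surjective_of_connected _ (hψ Ω (l ≫ U.hom))) V σ U b hσ l rfl
  · intro U v hv y
    obtain ⟨Ω, _, _, l, hl⟩ := exists_geomPoint U.left y
    rw [← hl]
    exact hsurj_strict (l ≫ U.hom) H F (hs Ω (l ≫ U.hom)) (hψ Ω (l ≫ U.hom)) U v hv l rfl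

end Groth.Agent.Etbc.H187.BCStrictAb
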