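import Groth.Agent.EtpbcB.Acyc

/-!
# Truncated acyclicity and composition of derived functors

`AcyclicN G n X`: `R^q G (X) = 0` for `1 ≤ q ≤ n`.  `comp_acyclicN`: if `K` is `AcyclicN F n` and `F`
sends injectives to `G`-acyclic objects then `R^q G (F K) ≅ R^q (F ⋙ G) K` for `q ≤ n`.
-/

set_option autoImplicit false
set_option backward.isDefEq.respectTransparency false
universe v u v' u' v'' u''

open CategoryTheory CategoryTheory.Limits CategoryTheory.Category
open Groth.Agent.EtpbcB.RDerLES Groth.Agent.EtpbcB.Acyc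

namespace Groth.Agent.Etbc.H187.CompAcycN

variable {C : Type u} [Category.{v} C] [Abelian C] [HasInjectiveResolutions C]
variable {D : Type u'} [Category.{v'} D] [Abelian D]

/-- `R^q G (X) = 0` for `1 ≤ q ≤ n`. -/
def AcyclicN (G : C ⥤ D) [G.Additive] (n : ℕ) (X : C) : Prop :=
  ∀ q : ℕ, 0 < q → q ≤ n → IsZero ((G.rightDerived q).obj X)

variable {G : C ⥤ D} [G.Additive]

lemma acyclicN_of_acyclic {X : C} (h : Acyclic G X) (n : ℕ) : AcyclicN G n X :=
  fun q hq _ => h q hq

lemma AcyclicN.mono {X : C} {m n : ℕ} (hmn : m ≤ n) (h : AcyclicN G n X) : AcyclicN G m X :=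
  fun q hq hqm => h q hq (hqm.trans hmn)

lemma AcyclicN.of_iso {X Y : C} {n : ℕ} (e : X ≅ Y) (h : AcyclicN G n X) : AcyclicN G n Y :=
  fun q hq hqn => (h q hq hqn).of_iso ((G.rightDerived q).mapIso e.symm)

/-- A retract of a truncated acyclic object is truncated acyclic. -/
lemma AcyclicN.of_retract {X Y : C} {n : ℕ} (i : X ⟶ Y) (r : Y ⟶ X) (hir : i ≫ r = 𝟙 X)
    (h : AcyclicN G n Y) : AcyclicN G n X := by
  intro q hq hqn
  rw [IsZero.iff_id_eq_zero]
  have h1 : (G.rightDerived q).map i = 0 := (h q hq hqn).eq_of_tgt _ _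
  rw [← (G.rightDerived q).map_id, ← hir, Functor.map_comp, h1, zero_comp]

section

variable {S : ShortComplex C} (hS : S.ShortExact)

include hS

lemma AcyclicN.mid {n : ℕ} (h₁ : AcyclicN G n S.X₁) (h₃ : AcyclicN G n S.X₃) :
    AcyclicN G n S.X₂ :=
  fun q hq hqn => isZero_mid G hS q (h₁ q hq hqn) (h₃ q hq hqn)

lemma AcyclicN.right {n : ℕ} (h₁ : AcyclicN G (n + 1) S.X₁) (h₂ : AcyclicN G n S.X₂) :
    AcyclicN G n S.X₃ :=
  fun q hq hqn => isZero_right G hS q (h₂ q hq hqn) (h₁ (q + 1) (by omega) (by omega))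

/-- A left exact functor maps a short exact sequence whose first term has vanishing `R^1` to a
short exact sequence. -/
lemma AcyclicN.map_shortExact [PreservesFiniteLimits G] {n : ℕ} (hn : 1 ≤ n)
    (h₁ : AcyclicN G n S.X₁) : (S.map G).ShortExact := by
  have hepi : Epi (G.map S.g) := epi_map_g G hS (h₁ 1 (by omega) hn)
  have := hS.mono_f
  exact { exact := hS.exact.map_of_mono_of_preservesKernel G inferInstance inferInstance
          mono_f := inferInstanceAs (Mono (G.map S.f))
          epi_g := hepi }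

end

section Comp

variable {A : Type u''} [Category.{v''} A] [Abelian A] [HasInjectiveResolutions A]
  [EnoughInjectives A]

/-- **Truncated composition of derived functors**. -/
theorem comp_acyclicN (F : A ⥤ C) [F.Additive]
    [PreservesFiniteLimits F] (G : C ⥤ D) [G.Additive] [PreservesFiniteLimits G]
    (hI : ∀ I : A, Injective I → Acyclic G (F.obj I)) (q : ℕ) :
    ∀ (n : ℕ) (K : A), AcyclicN F n K → q ≤ n →
      Nonempty ((G.rightDerived q).obj (F.obj K) ≅ ((F ⋙ G).rightDerived q).obj K) := by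
  have hFG : PreservesFiniteLimits (F ⋙ G) := comp_preservesFiniteLimits F G
  induction q with
  | zero =>
    intro n K _ _
    exact ⟨G.rightDerivedZeroIsoSelf.app _ ≪≫ ((F ⋙ G).rightDerivedZeroIsoSelf.app _).symm⟩
  | succ q ih =>
    intro n K hK hqn
    let S : ShortComplex A :=
      ShortComplex.mk (Injective.ι K) (cokernel.π (Injective.ι K)) (by simp)
    have hS : S.ShortExact :=
      { exact := ShortComplex.exact_cokernel _
        mono_f := inferInstanceAs (Mono (Injective.ι K))
        epi_g := inferInstanceAs (Epi (cokernel.π _)) }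
    have hinj : Injective S.X₂ := inferInstanceAs (Injective (Injective.under K))
    have hSF : (S.map F).ShortExact := AcyclicN.map_shortExact hS (n := n) (by omega) hK
    have hFI : Acyclic G (S.map F).X₂ := hI _ hinj
    have hFGI : Acyclic (F ⋙ G) S.X₂ := acyclic_of_injective _ _
    cases q with
    | zero =>
      exact ⟨oneIso hSF hFI ≪≫ (oneIso (G := F ⋙ G) hS hFGI).symm⟩
    | succ q =>
      obtain ⟨m, rfl⟩ : ∃ m, n = m + 1 := ⟨n - 1, by omega⟩
      have hK' : AcyclicN F m S.X₃ :=
        AcyclicN.right hS (n := m) hK (acyclicN_of_acyclic (acyclic_of_injective F S.X₂) m)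
      obtain ⟨i⟩ := ih m S.X₃ hK' (by omega)
      exact ⟨shiftIso hSF hFI q ≪≫ i ≪≫ (shiftIso (G := F ⋙ G) hS hFGI q).symm⟩

end Comp

end Groth.Agent.Etbc.H187.CompAcycN
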