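import Groth.Agent.Etcore.HC
import Groth.Agent.CurvesA.ArtinSchreier
import Groth.Agent.Etbase.GaQC

/-!
# Functoriality of the sheaf `G_a` and of Artin–Schreier classes

* `gap f : f⁻¹ G_a,Y ⟶ G_a,X`, `gap_eta`;
* `asHomC f`: the morphism of Artin–Schreier sequences;
* `ascl X p h b : H^1(X, ℤ/p)`, the Artin–Schreier class of a global function; `HC_ascl` (naturality),
  `exists_ascl_eq` (surjectivity on affine schemes), `exists_of_ascl_eq_zero` (kernel);
* `exists_decomp`: if `H^1(Y, ℤ/p) → H^1(X, ℤ/p)` is surjective, `Y` affine, then every global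
  function on `X` is a function on `Y` plus `t ^ p - t`.
-/

set_option autoImplicit false
universe u
open CategoryTheory CategoryTheory.Limits AlgebraicGeometry Opposite Abelian
open scoped Groth.Agent.Etcore.EtInst Groth.Agent.Etcore.HC
open Groth.Agent.Etcore Groth.Agent.Etcore.EtInst Groth.Agent.Etcore.PullCoh
open Groth.Agent.Etcore.HpullCalc Groth.Agent.Etcore.HC
open Groth.Agent.CurvesA Groth.Agent.CurvesA.ArtinSchreier

namespace Groth.Agent.Etbc.H187.GaFun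

variable {X Y Z : Scheme.{u}}

/-- The restriction `U ×_Y X → U`, underlying `bc f U`. -/
noncomputable abbrev bcFst (f : X ⟶ Y) (U : Y.Etale) : ((EtCoh.bc f).obj U).left ⟶ U.left :=
  pullback.fst U.hom f

theorem bcFst_nat (f : X ⟶ Y) {U V : Y.Etale} (r : V ⟶ U) :
    ((EtCoh.bc f).map r).left ≫ bcFst f U = bcFst f V ≫ r.left :=
  pullback.lift_fst _ _ _

/-- The morphism `G_a,Y ⟶ f_* G_a,X`. -/
noncomputable def gaUnit (f : X ⟶ Y) : EtCoh.Ga Y ⟶ (EtCoh.push f).obj (EtCoh.Ga X) where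
  hom :=
    { app := fun U => EtCoh.ΓAdd.map (bcFst f U.unop).op
      naturality := fun U V r => by
        have h := congrArg (fun t => EtCoh.ΓAdd.map t.op) (bcFst_nat f r.unop)
        have h2 : EtCoh.ΓAdd.map r.unop.left.op ≫ EtCoh.ΓAdd.map (bcFst f V.unop).op =
          EtCoh.ΓAdd.map (bcFst f U.unop).op ≫
            EtCoh.ΓAdd.map ((EtCoh.bc f).map r.unop).left.op := by
          rw [← Functor.map_comp, ← Functor.map_comp, ← op_comp, ← op_comp]
          exact h.symm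
        exact h2 }

/-- A function as a section of `G_a`. -/
noncomputable def ofFn {U : X.Etale} (a : Γ(U.left, ⊤)) : EtCoh.sect (EtCoh.Ga X) U :=
  (ULift.up a : ULift.{u + 1} Γ(U.left, ⊤))

/-- A section of `G_a` as a function. -/
noncomputable def fnOf {U : X.Etale} (s : EtCoh.sect (EtCoh.Ga X) U) : Γ(U.left, ⊤) :=
  (show ULift.{u + 1} Γ(U.left, ⊤) from s).down

theorem fnOf_ofFn {U : X.Etale} (a : Γ(U.left, ⊤)) : fnOf (ofFn (X := X) (U := U) a) = a := rfl

theorem ofFn_fnOf {U : X.Etale} (s : EtCoh.sect (EtCoh.Ga X) U) : ofFn (fnOf s) = s := rfl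

theorem fnOf_injective {U : X.Etale} : Function.Injective (fnOf (X := X) (U := U)) := by
  intro s t h
  rw [← ofFn_fnOf s, ← ofFn_fnOf t, h]

theorem fnOf_add {U : X.Etale} (s t : EtCoh.sect (EtCoh.Ga X) U) :
    fnOf (s + t) = fnOf s + fnOf t := rfl

theorem fnOf_zero {U : X.Etale} : fnOf (0 : EtCoh.sect (EtCoh.Ga X) U) = 0 := rfl

theorem fnOf_map {U V : X.Etale} (g : V ⟶ U) (s : EtCoh.sect (EtCoh.Ga X) U) :
    fnOf ((EtCoh.Ga X).obj.map g.op s) = g.left.appTop.hom (fnOf s) := rfl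

theorem fnOf_gaUnit (f : X ⟶ Y) (U : Y.Etale) (g : EtCoh.sect (EtCoh.Ga Y) U) :
    fnOf (X := X) (U := (EtCoh.bc f).obj U) ((gaUnit f).hom.app (op U) g) =
      (bcFst f U).appTop.hom (fnOf g) := rfl

/-- The morphism `f⁻¹ G_a,Y ⟶ G_a,X`. -/
noncomputable def gap (f : X ⟶ Y) : (EtCoh.pull f).obj (EtCoh.Ga Y) ⟶ EtCoh.Ga X :=
  ((EtCoh.pullPushAdj f).homEquiv _ _).symm (gaUnit f)

theorem unit_gap (f : X ⟶ Y) :
    (EtCoh.pullPushAdj f).unit.app (EtCoh.Ga Y) ≫ (EtCoh.push f).map (gap f) = gaUnit f := by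
  have h := ((EtCoh.pullPushAdj f).homEquiv _ _).apply_symm_apply (gaUnit f)
  rw [Adjunction.homEquiv_unit] at h
  exact h

/-- The value of `gap` on pulled back sections. -/
theorem gap_eta (f : X ⟶ Y) (U : Y.Etale) (g : EtCoh.sect (EtCoh.Ga Y) U) :
    (gap f).hom.app _ (eta f _ U g) = (gaUnit f).hom.app (op U) g :=
  congrArg (fun t => t.hom.app (op U) g) (unit_gap f)

section AS

variable (p : ℕ) [Fact p.Prime]

theorem fnOf_asMap (h : (p : Γ(X, ⊤)) = 0) (U : X.Etale) (s : EtCoh.sect (EtCoh.Ga X) U) :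
    fnOf ((asMap X p h).hom.app (op U) s) = fnOf s ^ p - fnOf s := rfl

theorem cst_eq (M : Type) [AddCommGroup M] (m : ULift.{u + 1} M) :
    cst X M m = (toSheafify X.smallEtaleTopology
      ((Functor.const _).obj (AddCommGrpCat.of (ULift.{u + 1} M)))).app (op (EtCoh.top X)) m := by
  have h5 : (EtCore.constAdj X).unit.app (AddCommGrpCat.of (ULift.{u + 1} M)) =
      𝟙 _ ≫ (toSheafify X.smallEtaleTopology
        ((Functor.const _).obj (AddCommGrpCat.of (ULift.{u + 1} M)))).app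
          (op (EtCoh.top X)) := by
    rfl
  exact congrArg (fun k => k.hom m) h5

theorem fnOf_constMap_cst (h : (p : Γ(X, ⊤)) = 0) (m : ULift.{u + 1} (ZMod p)) :
    fnOf ((constMap X p h).hom.app (op (EtCoh.top X)) (cst X (ZMod p) m)) =
      ASAlg.zmodHom Γ((EtCoh.top X).left, ⊤) p
        (cast_eq_zero_of_etale X p h (EtCoh.top X)) m.down := by
  rw [cst_eq]
  exact congrArg (fun s => fnOf (X := X) (U := EtCoh.top X) s)
    (toSheafify_constMap X p h (EtCoh.top X) m)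

/-- The morphism of Artin–Schreier sequences attached to a morphism of schemes. -/
noncomputable def asHomC (f : X ⟶ Y) (hY : (p : Γ(Y, ⊤)) = 0) (hX : (p : Γ(X, ⊤)) = 0) :
    (asComplex Y p hY).map (EtCoh.pull f) ⟶ asComplex X p hX where
  τ₁ := (EtCore.pullConst f (ZMod p)).hom
  τ₂ := gap f
  τ₃ := gap f
  comm₁₂ := by
    change (EtCore.pullConst f (ZMod p)).hom ≫ constMap X p hX =
      (EtCoh.pull f).map (constMap Y p hY) ≫ gap f
    refine pull_const_hom_ext f _ _ fun m => ?_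
    rw [map_comp_app, map_comp_app, pullConst_unit, map_res, eta_map, gap_eta]
    apply fnOf_injective
    rw [fnOf_map, fnOf_constMap_cst, fnOf_gaUnit, fnOf_constMap_cst]
    rw [ASAlg.map_zmodHom p _ (cast_eq_zero_of_etale X p hX ((EtCoh.bc f).obj (EtCoh.top Y)))]
    exact (ASAlg.map_zmodHom p _ (cast_eq_zero_of_etale X p hX ((EtCoh.bc f).obj (EtCoh.top Y)))
      (bcFst f (EtCoh.top Y)).appTop.hom m.down).symm
  comm₂₃ := by
    change gap f ≫ asMap X p hX = (EtCoh.pull f).map (asMap Y p hY) ≫ gap f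
    refine pull_hom_ext f _ _ fun U g => ?_
    rw [map_comp_app, map_comp_app, eta_map, gap_eta, gap_eta]
    apply fnOf_injective
    rw [fnOf_asMap, fnOf_gaUnit, fnOf_gaUnit, fnOf_asMap]
    have h1 : (bcFst f U).appTop.hom (fnOf g ^ p - fnOf g) =
        (bcFst f U).appTop.hom (fnOf g) ^ p - (bcFst f U).appTop.hom (fnOf g) := by
      rw [map_sub, map_pow]
    exact h1.symm

/-- `H^0(X, G_a)` from a global function. -/
noncomputable def a0 (b : Γ(X, ⊤)) : HH X (EtCoh.Ga X) 0 :=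
  (H0 X (EtCoh.Ga X)).symm (ofFn (X := X) (U := EtCoh.top X) b)

theorem a0_add (a b : Γ(X, ⊤)) : a0 (a + b) = a0 a + a0 b := by
  rw [a0, a0, a0, ← map_add]
  rfl

theorem a0_neg (a : Γ(X, ⊤)) : a0 (-a) = - a0 a := by
  rw [a0, a0, ← map_neg]
  rfl

theorem a0_sub (a b : Γ(X, ⊤)) : a0 (a - b) = a0 a - a0 b := by
  rw [sub_eq_add_neg, a0_add, a0_neg, sub_eq_add_neg]

theorem exists_a0_eq (c : HH X (EtCoh.Ga X) 0) : ∃ b : Γ(X, ⊤), a0 b = c :=
  ⟨fnOf (X := X) (U := EtCoh.top X) (H0 X (EtCoh.Ga X) c), by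
    rw [a0, ofFn_fnOf, AddEquiv.symm_apply_apply]⟩

theorem a0_injective : Function.Injective (a0 (X := X)) := by
  intro a b h
  have h1 := (H0 X (EtCoh.Ga X)).symm.injective h
  exact (fnOf_ofFn (X := X) (U := EtCoh.top X) a).symm.trans
    ((congrArg (fun s => fnOf (X := X) (U := EtCoh.top X) s) h1).trans
      (fnOf_ofFn (X := X) (U := EtCoh.top X) b))

theorem gap_unitSec (f : X ⟶ Y) (s : EtCoh.sect (EtCoh.Ga Y) (EtCoh.top Y)) :
    fnOf (X := X) (U := EtCoh.top X)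
      ((gap f).hom.app (op (EtCoh.top X)) ((unitSec f (EtCoh.Ga Y)).hom s)) =
        f.appTop.hom (fnOf (X := Y) (U := EtCoh.top Y) s) := by
  have h1 : (unitSec f (EtCoh.Ga Y)).hom s =
      ((EtCoh.pull f).obj (EtCoh.Ga Y)).obj.map (EtCore.bcTopIso f).inv.op
        (eta f _ (EtCoh.top Y) s) := by
    rw [unitSec_eq]; rfl
  rw [h1, map_res, gap_eta, fnOf_map, fnOf_gaUnit]
  let t : X ⟶ pullback (𝟙 Y) f := (EtCore.bcTopIso f).inv.left
  have h2 : t ≫ pullback.snd (𝟙 Y) f = 𝟙 X := MorphismProperty.Over.w (EtCore.bcTopIso f).inv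
  have h3 : t ≫ pullback.fst (𝟙 Y) f = f := by
    have h4 : pullback.fst (𝟙 Y) f ≫ 𝟙 Y = pullback.snd (𝟙 Y) f ≫ f := pullback.condition
    rw [Category.comp_id] at h4
    rw [h4, ← Category.assoc, h2, Category.id_comp]
  have h5 : ∀ z : Γ(Y, ⊤), t.appTop.hom ((pullback.fst (𝟙 Y) f).appTop.hom z) =
      f.appTop.hom z := by
    intro z
    have h6 := congrArg (fun k => (Scheme.Hom.appTop k).hom z) h3
    refine Eq.trans ?_ h6
    have h7 : (t ≫ pullback.fst (𝟙 Y) f).appTop = (pullback.fst (𝟙 Y) f).appTop ≫ t.appTop :=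
      Scheme.Hom.comp_appTop _ _
    exact (congrArg (fun k => k.hom z) h7).symm
  exact h5 (fnOf (X := Y) (U := EtCoh.top Y) s)

theorem hpl_a0 (f : X ⟶ Y) (b : Γ(Y, ⊤)) : hpl f (gap f) 0 (a0 b) = a0 (f.appTop.hom b) := by
  apply (H0 X (EtCoh.Ga X)).injective
  rw [hpl_apply, H0_map, hp_zero, a0, a0, AddEquiv.apply_symm_apply, AddEquiv.apply_symm_apply]
  apply fnOf_injective
  exact (gap_unitSec f _).trans rfl

variable (X) in
/-- The Artin–Schreier class of a global function. -/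
noncomputable def ascl (h : (p : Γ(X, ⊤)) = 0) (b : Γ(X, ⊤)) : HH X (EtCoh.const X (ZMod p)) 1 :=
  (a0 b).comp (shortExact X p h).extClass rfl

theorem ascl_sub (h : (p : Γ(X, ⊤)) = 0) (a b : Γ(X, ⊤)) :
    ascl X p h (a - b) = ascl X p h a - ascl X p h b := by
  rw [ascl, ascl, ascl, a0_sub, sub_eq_add_neg, Ext.add_comp, Ext.neg_comp, sub_eq_add_neg]

/-- **Naturality of Artin–Schreier classes.** -/
theorem HC_ascl (f : X ⟶ Y) (hY : (p : Γ(Y, ⊤)) = 0) (hX : (p : Γ(X, ⊤)) = 0) (b : Γ(Y, ⊤)) :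
    HC.HC (ZMod p) f 1 (ascl Y p hY b) = ascl X p hX (f.appTop.hom b) := by
  have h1 := hpl_extClass f (shortExact Y p hY) (shortExact X p hX)
    (asHomC p f hY hX) rfl (a0 b)
  rw [ascl, ascl]
  refine h1.trans ?_
  have h2 : hpl f (asHomC p f hY hX).τ₃ 0 (a0 b) = a0 (f.appTop.hom b) := hpl_a0 f b
  rw [h2]

/-- The kernel of the Artin–Schreier class map. -/
theorem exists_of_ascl_eq_zero (h : (p : Γ(X, ⊤)) = 0) (b : Γ(X, ⊤)) (hb : ascl X p h b = 0) :
    ∃ t : Γ(X, ⊤), t ^ p - t = b := by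
  obtain ⟨y, hy⟩ := Abelian.Ext.covariant_sequence_exact₃ _ (shortExact X p h) (a0 b) rfl hb
  obtain ⟨t, rfl⟩ := exists_a0_eq (X := X) y
  refine ⟨t, ?_⟩
  apply a0_injective
  rw [← hy]
  apply (H0 X (EtCoh.Ga X)).injective
  have h2 : H0 X (EtCoh.Ga X) (HHmap (asMap X p h) 0 (a0 t)) =
      (asMap X p h).hom.app (op (EtCoh.top X)) (H0 X (EtCoh.Ga X) (a0 t)) := H0_map _ _
  refine Eq.trans ?_ h2.symm
  rw [a0, a0, AddEquiv.apply_symm_apply, AddEquiv.apply_symm_apply]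
  rfl

/-- On an affine scheme every class is an Artin–Schreier class. -/
theorem exists_ascl_eq [IsAffine X] (h : (p : Γ(X, ⊤)) = 0)
    (c : HH X (EtCoh.const X (ZMod p)) 1) : ∃ b : Γ(X, ⊤), ascl X p h b = c := by
  have h0 : Subsingleton (HH X (EtCoh.Ga X) 1) :=
    Groth.Agent.Etbase.EtCartan.H_subsingleton_of_etAcyc _
      (Groth.Agent.Etbase.GaQC.ga_etAcyc X) 0
  obtain ⟨y, hy⟩ := Abelian.Ext.covariant_sequence_exact₁ _ (shortExact X p h) c
    (h0.elim _ _) rfl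
  obtain ⟨b, rfl⟩ := exists_a0_eq (X := X) y
  exact ⟨b, hy⟩

/-- If `H^1(Y, ℤ/p) → H^1(X, ℤ/p)` is surjective, `Y` affine, then every global function on `X` is
a function on `Y` plus `t ^ p - t`. -/
theorem exists_decomp (f : X ⟶ Y) [IsAffine Y] (hY : (p : Γ(Y, ⊤)) = 0)
    (hs : Function.Surjective (hp f (EtCoh.const Y (ZMod p)) 1)) (a : Γ(X, ⊤)) :
    ∃ (b : Γ(Y, ⊤)) (t : Γ(X, ⊤)), a = f.appTop.hom b + (t ^ p - t) := by
  have hX : (p : Γ(X, ⊤)) = 0 := by
    have h1 := congrArg f.appTop.hom hY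
    rwa [map_natCast, map_zero] at h1
  obtain ⟨c, hc⟩ := (surjective_HC_iff (ZMod p) f 1).2 hs (ascl X p hX a)
  obtain ⟨b, rfl⟩ := exists_ascl_eq p hY c
  rw [HC_ascl p f hY hX] at hc
  have h2 : ascl X p hX (a - f.appTop.hom b) = 0 := by
    rw [ascl_sub, hc, sub_self]
  obtain ⟨t, ht⟩ := exists_of_ascl_eq_zero p hX _ h2
  refine ⟨b, t, ?_⟩
  rw [ht]
  ring

end AS

end Groth.Agent.Etbc.H187.GaFun
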