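import Groth.Agent.Etbc.H189.GeomComp
import Groth.Agent.Etbc.H195.FieldExtAcyc
import Groth.Agent.EtpbcB.SBCConst
import Groth.Agent.EtpbcB.PBCVan

/-!
# Geometric fibres of acyclic morphisms: coefficients prime to the characteristic

`t : T ⟶ S` quasi-compact quasi-separated and `n`-acyclic for `L`, `Ω` algebraically closed,
`ℓ ∈ L` prime, not zero in `Ω`.  Then `H^q(T ×_S Spec Ω, G) = 0` for `1 ≤ q ≤ n` and `ℓ`-killed
sheaves `G` on `Spec Ω`.
-/

set_option autoImplicit false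
universe u
open CategoryTheory CategoryTheory.Limits AlgebraicGeometry Opposite IsLocalRing

namespace Groth.Agent.Etbc.H187.GeomFibL

open scoped Groth.Agent.Etcore.EtInst
open Groth.Agent.Etrest.StrictLoc Groth.Agent.Etcore.HpullCalc Groth.Agent.Etcore.EtInst
  Groth.Agent.Sga4B.ConstLC Groth.Agent.Ega2.LACRB

theorem killedBy_LC (X : Scheme.{u}) (ℓ : ℕ) (A : Type (u + 1)) [AddCommGroup A]
    (hA : ∀ a : A, ℓ • a = 0) : EtCoh.KilledBy ℓ (LC X A) := by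
  intro U s
  apply LocallyConstant.ext (f := (ℓ • s : LocallyConstant U.left A))
  intro x
  exact hA _

theorem van_l {T S : Scheme.{u}} (t : T ⟶ S) [QuasiCompact t] [QuasiSeparated t] {L : Set ℕ}
    {n : ℕ} (ht : EtAcyc.IsAcyclicN t L n) {ℓ : ℕ} (hℓ : ℓ.Prime) (hℓL : ℓ ∈ L) {Ω : Type u}
    [Field Ω] [IsAlgClosed Ω] (hΩ : (ℓ : Ω) ≠ 0) (g : Spec (CommRingCat.of Ω) ⟶ S)
    (G : EtCoh.Ab (Spec (CommRingCat.of Ω))) (hG : EtCoh.KilledBy ℓ G) (q : ℕ) (hq : 0 < q)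
    (hqn : q ≤ n) : EtpbcB.PBCVan.Van g t G q := by
  obtain ⟨y, hy⟩ : ∃ y : S, g (closedPoint Ω) = y := ⟨_, rfl⟩
  obtain ⟨j, hj⟩ := exists_residueField_hom g y hy
  let _ : Algebra (S.residueField y) Ω := j.toAlgebra
  let Ω₀ := AlgebraicClosure (S.residueField y)
  let φ : Ω₀ →ₐ[S.residueField y] Ω := IsAlgClosed.lift
  let γ := EtAcyc.geomPt S y Ω₀
  have hg : spm φ.toRingHom ≫ γ = g := by
    rw [← hj]
    change spm φ.toRingHom ≫ spm (algebraMap (S.residueField y) Ω₀) ≫ _ = spm j ≫ _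
    rw [← Category.assoc, ← spm_comp]
    congr 2
    exact φ.comp_algebraMap
  obtain ⟨eG⟩ := EtpbcB.SBCConst.nonempty_iso_LC Ω G
  set M := G.obj.obj (op (EtCoh.top (Spec (CommRingCat.of Ω)))) with hM
  have hMk : ∀ a : M, ℓ • a = 0 := hG (EtCoh.top (Spec (CommRingCat.of Ω)))
  let F : EtCoh.Ab S := LC S M
  have hF : EtCoh.KilledBy ℓ F := killedBy_LC S ℓ M hMk
  have hpr : EtAcyc.PrimesIn L ℓ :=
    ⟨hℓ.pos, fun p hp hpl => by rwa [(Nat.prime_dvd_prime_iff_eq hp hℓ).1 hpl]⟩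
  have h1 := (H189.GeomComp.comp_geomPt t ht y Ω₀ F hpr
    (fun z => EtpbcB.NKillEt.killedBy_pull z hF)).1 q hqn
  have h2 : Subsingleton (EtCoh.H (Spec (CommRingCat.of Ω₀)) ((EtCoh.pull γ).obj F) q) := by
    have := Groth.Agent.Etrest.SHPoint.isSepClosed_residueField Ω₀
    exact Groth.Agent.S0073.result Ω₀ _ q hq
  -- the fibre over `Ω₀`
  let v : pullback t γ ⟶ Spec (CommRingCat.of Ω₀) := pullback.snd t γ
  let F₁ : EtCoh.Ab (pullback t γ) := (EtCoh.pull v).obj ((EtCoh.pull γ).obj F)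
  have h3 : Subsingleton (EtCoh.H (pullback t γ) F₁ q) := by
    have h4 : Function.Surjective (hp v ((EtCoh.pull γ).obj F) q) := h1.2
    exact @Function.Surjective.subsingleton _ _ _ h2 h4
  let p : pullback g t ⟶ pullback t γ := pullback.lift (pullback.snd g t)
    (pullback.fst g t ≫ spm φ.toRingHom) (by
      rw [Category.assoc, hg, pullback.condition])
  have hp1 : p ≫ pullback.fst t γ = pullback.snd g t := pullback.lift_fst _ _ _
  have hp2 : p ≫ v = pullback.fst g t ≫ spm φ.toRingHom := pullback.lift_snd _ _ _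
  have hsq : IsPullback p (pullback.fst g t) v (spm φ.toRingHom) := by
    refine IsPullback.of_right (h₁₂ := pullback.fst t γ) (h₂₂ := γ) (v₁₃ := t) ?_ hp2
      (IsPullback.of_hasPullback t γ)
    rw [hp1, hg]
    exact (IsPullback.of_hasPullback g t).flip
  have hF₁ : EtCoh.KilledBy ℓ F₁ :=
    EtpbcB.NKillEt.killedBy_pull _ (EtpbcB.NKillEt.killedBy_pull _ hF)
  have hch : ℓ ≠ ringChar Ω₀ := by
    intro h0
    apply hΩ
    have h4 : (ℓ : Ω₀) = 0 := by rw [h0]; exact ringChar.Nat.cast_ringChar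
    have h5 := congrArg φ.toRingHom h4
    rwa [map_natCast, map_zero] at h5
  have hF₂ : EtAcyc.IsLTorsion {ℓ | ℓ.Prime ∧ ℓ ≠ ringChar Ω₀} F₁ :=
    fun U s x => ⟨U, 𝟙 U, ℓ, ⟨x, rfl⟩, ⟨hℓ.pos, fun p hp hpl => by
      rw [(Nat.prime_dvd_prime_iff_eq hp hℓ).1 hpl]; exact ⟨hℓ, hch⟩⟩, hF₁ U _⟩
  have h5 : Subsingleton (EtCoh.H (pullback g t) ((EtCoh.pull p).obj F₁) q) := by
    have h6 := (H195.FieldExtAcyc.inv_of_isPullback φ.toRingHom hsq F₁ hF₂ q).2
    exact @Function.Surjective.subsingleton _ _ _ h3 h6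
  have hpg : p ≫ v ≫ γ = pullback.fst g t ≫ g := by
    rw [← Category.assoc, hp2, Category.assoc, hg]
  let e1 : (EtCoh.pull p).obj F₁ ≅ (EtCoh.pull (pullback.fst g t)).obj G :=
    (EtCoh.pull p).mapIso (pullIso rfl F) ≪≫ pullIso (k := pullback.fst g t ≫ g) hpg F ≪≫
      (pullIso rfl F).symm ≪≫ (EtCoh.pull (pullback.fst g t)).mapIso (asIso (LCpull g M) ≪≫ eG)
  exact EtpbcB.SBCConst.subsingleton_H_of_iso e1 q h5

end Groth.Agent.Etbc.H187.GeomFibL
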