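import Groth.Agent.Etbc.H187.RedCoreN
import Groth.Agent.EtpbcB.RedMain

/-!
# Truncated reduction of base change to the point case

Truncated (degrees `1 ≤ q ≤ n`) version of `EtpbcB.RedMain`: let `P` be a class of morphisms stable
under base change such that for `f₁` in `P` degree zero base change holds against all quasi-compact
quasi-separated `T ⟶ S₁` and the truncated point case holds.  Then for `f₁ : X₁ ⟶ S₁` in `P`,
`g : T ⟶ S₁` quasi-compact and quasi-separated and `I` injective among `ℓ`-killed sheaves on `T`,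
`R^q h_* (e⁻¹ I) = 0` for `1 ≤ q ≤ n`.
-/

set_option autoImplicit false
universe u

open CategoryTheory CategoryTheory.Limits AlgebraicGeometry Opposite IsLocalRing
open Groth.Agent.EtpbcB
open Groth.Agent.EtpbcB.PBCVan Groth.Agent.EtpbcB.RedVan Groth.Agent.EtpbcB.RedPts
open Groth.Agent.EtpbcB.NKill Groth.Agent.EtpbcB.NKillEt Groth.Agent.EtpbcB.Acyc
open Groth.Agent.EtpbcB.Red Groth.Agent.Etbc.H187.CompAcycN Groth.Agent.Etbc.H187.RedCoreN

namespace Groth.Agent.Etbc.H187.RedMainN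

variable {X₁ S₁ T Y : Scheme.{u}}

/-- Truncated point case for all strictly henselian base changes. -/
def PointCaseN (ℓ n : ℕ) (f₁ : X₁ ⟶ S₁) : Prop :=
  ∀ (A : Type u) [CommRing A] [HenselianLocalRing A] [IsSepClosed (ResidueField A)]
      (b : Spec (CommRingCat.of A) ⟶ S₁) {X₂ : Scheme.{u}} (p : X₂ ⟶ X₁)
      (f₂ : X₂ ⟶ Spec (CommRingCat.of A)), IsPullback p f₂ f₁ b → PointAcyclicN ℓ n f₂

theorem PointCaseN.of_isPullback {ℓ n : ℕ} {X₂ S₂ : Scheme.{u}} {f₁ : X₁ ⟶ S₁} {f₂ : X₂ ⟶ S₂}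
    {p : X₂ ⟶ X₁} {b : S₂ ⟶ S₁} (h : PointCaseN ℓ n f₁) (sq : IsPullback p f₂ f₁ b) :
    PointCaseN ℓ n f₂ := fun A _ _ _ b' _ p' f' sq' =>
  h A (b' ≫ b) (p' ≫ p) f' (sq'.paste_horiz sq)

/-- Affine base. -/
theorem acyclic_of_affine {ℓ n : ℕ} (f₁ : X₁ ⟶ S₁) (g : T ⟶ S₁)
    [IsAffine S₁] [QuasiCompact g] [QuasiSeparated g] (h : Y ⟶ X₁) (e : Y ⟶ T)
    (sq : IsPullback e h g f₁) (H0 : Red.BC0 ℓ e) (H1 : PointCaseN ℓ n f₁)
    (I : EtCoh.Ab T) (hI : EtCoh.KilledBy ℓ I) (hI' : NInj ℓ I) :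
    AcyclicN (EtCoh.push h) n ((EtCoh.pull e).obj I) := by
  have hTc : CompactSpace T := QuasiCompact.compactSpace_of_compactSpace g
  have hTs : QuasiSeparatedSpace T := quasiSeparatedSpace_of_quasiSeparated g
  obtain ⟨T', π, hT', hπ⟩ := IsPts.exists_cover T
  have := hT'.affine
  have hπc : QuasiCompact π := inferInstance
  have hπs : QuasiSeparated π := inferInstance
  let G := (EtCoh.pull π).obj I
  have hG : EtCoh.KilledBy ℓ G := killedBy_pull π hI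
  have hmono : Mono ((EtCoh.pullPushAdj π).unit.app I) := SurjFaithful.mono_unit π I
  obtain ⟨r, hr⟩ := hI' I ((killedBy_iff ℓ I).1 hI) (𝟙 I) ((EtCoh.pullPushAdj π).unit.app I)
    ((killedBy_iff ℓ _).1 (killedBy_push π hG)) hmono
  -- the square over `π`
  have sqπ : IsPullback (pullback.snd e π) (pullback.fst e π) π e :=
    (IsPullback.of_hasPullback e π).flip
  set πY := pullback.fst e π with hπY
  set e' := pullback.snd e π with he'
  have hQ1 : QuasiCompact h := MorphismProperty.of_isPullback sq inferInstance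
  have hQ2 : QuasiSeparated h := MorphismProperty.of_isPullback sq inferInstance
  have hQ3 : QuasiCompact πY := MorphismProperty.of_isPullback sqπ inferInstance
  have hQ4 : QuasiSeparated πY := MorphismProperty.of_isPullback sqπ inferInstance
  have sq2 : IsPullback e' (πY ≫ h) (π ≫ g) f₁ := sqπ.paste_vert sq
  have hA1 : AcyclicN (EtCoh.push πY) n ((EtCoh.pull e').obj G) := fun q hq hqn =>
    isZero_of_vanPt sqπ G q fun y => RedCoreN.vanPt_of_isPts e (H1.of_isPullback sq.flip) hT' π G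
      hG q hq hqn y
  have hA2 : AcyclicN (EtCoh.push (πY ≫ h)) n ((EtCoh.pull e').obj G) := fun q hq hqn =>
    isZero_of_vanPt sq2 G q fun y => RedCoreN.vanPt_of_isPts f₁ H1 hT' (π ≫ g) G hG q hq hqn y
  have hA3 : AcyclicN (EtCoh.push h) n ((EtCoh.push πY).obj ((EtCoh.pull e').obj G)) :=
    fun q hq hqn => (hA2 q hq hqn).of_iso (RedCoreN.nonempty_Rpush_comp πY h _ hA1 q hqn).some
  have hbc : IsIso (EtCoh.baseChange0 π e πY e' sqπ.w G) := H0 π πY e' sqπ G hG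
  have hA4 : AcyclicN (EtCoh.push h) n ((EtCoh.pull e).obj ((EtCoh.push π).obj G)) :=
    hA3.of_iso (asIso (EtCoh.baseChange0 π e πY e' sqπ.w G)).symm
  refine hA4.of_retract ((EtCoh.pull e).map ((EtCoh.pullPushAdj π).unit.app I))
    ((EtCoh.pull e).map r) ?_
  rw [← Functor.map_comp, hr]
  exact (EtCoh.pull e).map_id I

/-- The truncated reduction theorem. -/
theorem isZero_Rpush {ℓ n : ℕ} (P : MorphismProperty Scheme.{u}) [P.IsStableUnderBaseChange]
    (H0 : ∀ {X S : Scheme.{u}} (f : X ⟶ S), P f → Red.BC0 ℓ f)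
    (H1 : ∀ (A : Type u) [CommRing A] [HenselianLocalRing A] [IsSepClosed (ResidueField A)]
      {X : Scheme.{u}} (f : X ⟶ Spec (CommRingCat.of A)), P f → PointAcyclicN ℓ n f)
    (f₁ : X₁ ⟶ S₁) (hf₁ : P f₁) (g : T ⟶ S₁) [QuasiCompact g] [QuasiSeparated g]
    (h : Y ⟶ X₁) (e : Y ⟶ T) (sq : IsPullback e h g f₁)
    (I : EtCoh.Ab T) (hI : EtCoh.KilledBy ℓ I) (hI' : NInj ℓ I) (q : ℕ) (hq : 0 < q)
    (hqn : q ≤ n) :
    IsZero ((EtCoh.Rpush h q).obj ((EtCoh.pull e).obj I)) := by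
  have hQ1 : QuasiCompact h := MorphismProperty.of_isPullback sq inferInstance
  have hQ2 : QuasiSeparated h := MorphismProperty.of_isPullback sq inferInstance
  refine isZero_of_vanPt sq I q fun x => ?_
  obtain ⟨V, hV, hx⟩ : ∃ V : S₁.Opens, IsAffineOpen V ∧ f₁ x ∈ V := by
    obtain ⟨V, hV, hx, -⟩ := exists_isAffineOpen_mem_and_subset (x := f₁ x) (U := ⊤) trivial
    exact ⟨V, hV, hx⟩
  have hVa : IsAffine V := hV
  have hVr : f₁ x ∈ Set.range V.ι := by rwa [Scheme.Opens.range_ι]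
  obtain ⟨v, hv⟩ := hVr
  obtain ⟨z, hz1, -⟩ := Scheme.Pullback.exists_preimage_pullback (f := f₁) (g := V.ι) x v hv.symm
  set f₂ := pullback.snd f₁ V.ι
  set g₂ := pullback.snd g V.ι
  have hPf₂ : P f₂ := P.pullback_snd _ _ hf₁
  have sq₂ := IsPullback.of_hasPullback g₂ f₂
  have hPe : P (pullback.fst g₂ f₂) := P.pullback_fst _ _ hPf₂
  have hpc : PointCaseN ℓ n f₂ := fun A _ _ _ b X₂ p f' sq' =>
    H1 A f' (MorphismProperty.of_isPullback sq' hPf₂)
  have hac := acyclic_of_affine f₂ g₂ (pullback.snd g₂ f₂) (pullback.fst g₂ f₂) sq₂ (H0 _ hPe) hpc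
    ((EtCoh.pull (pullback.fst g V.ι)).obj I) (killedBy_pull _ hI) (NKillOpen.nInj_pull _ hI')
  have h1 := vanPt_of_isZero sq₂ _ q (hac q hq hqn) z
  have h2 := vanPt_localize (p := pullback.fst f₁ V.ι) pullback.condition
    (IsPullback.of_hasPullback g V.ι) I q z h1
  rwa [hz1] at h2

/-- The truncated reduction theorem, for the base changes of a fixed morphism. -/
theorem isZero_Rpush_of_baseChanges {ℓ n : ℕ} {X S : Scheme.{u}} (f : X ⟶ S)
    (H0 : ∀ {X₁ S₁ : Scheme.{u}} (f₁ : X₁ ⟶ S₁) (a : X₁ ⟶ X) (b : S₁ ⟶ S),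
      IsPullback a f₁ f b → Red.BC0 ℓ f₁)
    (H1 : ∀ (A : Type u) [CommRing A] [HenselianLocalRing A] [IsSepClosed (ResidueField A)]
      {X₁ : Scheme.{u}} (b : Spec (CommRingCat.of A) ⟶ S) (a : X₁ ⟶ X)
      (f₁ : X₁ ⟶ Spec (CommRingCat.of A)), IsPullback a f₁ f b → PointAcyclicN ℓ n f₁)
    (f₁ : X₁ ⟶ S₁) (a : X₁ ⟶ X) (b : S₁ ⟶ S) (hf₁ : IsPullback a f₁ f b)
    (g : T ⟶ S₁) [QuasiCompact g] [QuasiSeparated g]
    (h : Y ⟶ X₁) (e : Y ⟶ T) (sq : IsPullback e h g f₁)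
    (I : EtCoh.Ab T) (hI : EtCoh.KilledBy ℓ I) (hI' : NInj ℓ I) (q : ℕ) (hq : 0 < q)
    (hqn : q ≤ n) :
    IsZero ((EtCoh.Rpush h q).obj ((EtCoh.pull e).obj I)) :=
  isZero_Rpush (baseChanges f) (fun f₁ ⟨a, b, h⟩ => H0 f₁ a b h)
    (fun A _ _ _ _ f₁ ⟨a, b, h⟩ => H1 A b a f₁ h) f₁ ⟨a, b, hf₁⟩ g h e sq I hI hI' q hq hqn

end Groth.Agent.Etbc.H187.RedMainN
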