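import Groth.Agent.Etbc.H187.GeomFibP
import Groth.Agent.Etbc.H187.GeomFibL
import Groth.Agent.Etbc.H187.RedMainN
import Groth.Agent.EtpbcB.GeomPt

/-!
# The truncated point case for universally locally `n`-acyclic morphisms
-/

set_option autoImplicit false
universe u
open CategoryTheory CategoryTheory.Limits AlgebraicGeometry Opposite IsLocalRing

namespace Groth.Agent.Etbc.H187.GeomFibAll

open Groth.Agent.Etrest.StrictLoc Groth.Agent.Sga1.UlaSL

theorem isULocAcyclicN_of_isPullback {X Y X₁ Y₁ : Scheme.{u}} {g : X ⟶ Y} {g₁ : X₁ ⟶ Y₁}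
    {b' : X₁ ⟶ X} {b : Y₁ ⟶ Y} {L : Set ℕ} {n : ℕ} (hg : EtAcyc.IsULocAcyclicN g L n)
    (sq : IsPullback b' g₁ g b) : EtAcyc.IsULocAcyclicN g₁ L n :=
  fun _ _ _ _ _ sq' => hg _ _ _ (sq'.paste_horiz sq)

theorem isLocalHom_of_closedPoint {A R : Type u} [CommRing A] [CommRing R] [IsLocalRing A]
    [IsLocalRing R] (β : A →+* R) (h : spm β (closedPoint R) = closedPoint A) : IsLocalHom β := by
  refine ⟨fun a ha => ?_⟩
  by_contra hna
  have h1 : a ∈ maximalIdeal A := (mem_maximalIdeal a).2 hna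
  have h2 : (spm β (closedPoint R)).asIdeal = maximalIdeal A := by rw [h]; rfl
  rw [← h2] at h1
  exact (mem_maximalIdeal _).1 (show β a ∈ maximalIdeal R from h1) ha

/-- The strict localizations of `f₁` over the closed point of a strictly henselian local ring. -/
theorem isAcyclicN_specOf {X₁ : Scheme.{u}} {A : Type u} [CommRing A] [HenselianLocalRing A]
    [IsSepClosed (ResidueField A)] {f₁ : X₁ ⟶ Spec (CommRingCat.of A)} {L : Set ℕ} {n : ℕ}
    (hf : EtAcyc.IsLocAcyclicN f₁ L n) (x : X₁) (hx : f₁ x = closedPoint A) (R : Type u)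
    [CommRing R] [IsLocalRing R] [Algebra (X₁.presheaf.stalk x) R]
    [IsLocalHom (algebraMap (X₁.presheaf.stalk x) R)]
    [Hensel.IsStrictHenselization (X₁.presheaf.stalk x) R] :
    ∃ β : A →+* R, spm β = Hens2.specOf X₁ x R ≫ f₁ ∧ EtAcyc.IsAcyclicN (spm β) L n := by
  let β : A →+* R := (Spec.preimage (Hens2.specOf X₁ x R ≫ f₁)).hom
  have hβ : spm β = Hens2.specOf X₁ x R ≫ f₁ := Spec.map_preimage _
  have hl : IsLocalHom β := by
    apply isLocalHom_of_closedPoint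
    rw [hβ, Scheme.Hom.comp_apply, Groth.Agent.Etrest.VCBaseChange.specOf_closedPoint, hx]
  exact ⟨β, hβ, PI.isAcyclicN_of_isStrictLoc hf (isStrictLoc_specOf X₁ x R) (isStrictLoc_id A) β
    (by rw [Category.comp_id, hβ])⟩

/-- **The truncated point case.** -/
theorem pointAcyclicN {X₁ : Scheme.{u}} {A : Type u} [CommRing A] [HenselianLocalRing A]
    [IsSepClosed (ResidueField A)] {f₁ : X₁ ⟶ Spec (CommRingCat.of A)} {L : Set ℕ} {n : ℕ}
    (hf : EtAcyc.IsULocAcyclicN f₁ L n) {ℓ : ℕ} (hℓ : ℓ.Prime) (hℓL : ℓ ∈ L) :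
    RedCoreN.PointAcyclicN ℓ n f₁ := by
  intro Ω _ _ g Y h e sq G hG q hq hqn k _ _ z hz
  obtain ⟨x, hx⟩ : ∃ x : X₁, z default = x := ⟨_, rfl⟩
  obtain ⟨R, _, _, _, _, hR⟩ := Groth.Agent.S0537.result (X₁.presheaf.stalk x)
  have hsep : IsSepClosed (ResidueField R) := hR.isSepClosure.sep_closed
  have hwe : WeaklyEtale (Hens2.specOf X₁ x R) := Groth.Agent.S0754.result X₁ x R
  have hv : EtpbcB.PBCVan.Van h (Hens2.specOf X₁ x R) ((EtCoh.pull e).obj G) q := by
    by_cases hΩ : (ℓ : Ω) = 0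
    · have : Fact ℓ.Prime := ⟨hℓ⟩
      have : CharP Ω ℓ := by
        have h1 : ringChar Ω ∣ ℓ := (ringChar.spec Ω ℓ).1 hΩ
        rcases (Nat.dvd_prime hℓ).1 h1 with h2 | h2
        · exact absurd h2 (CharP.ringChar_ne_one)
        · rw [← h2]; exact ringChar.charP Ω
      exact GeomFibP.van_p hf (le_trans hq hqn) ℓ hℓL g h e sq (Hens2.specOf X₁ x R) _ q hq
    · have hf0 : EtAcyc.IsLocAcyclicN f₁ L n := hf f₁ (𝟙 _) (𝟙 _) IsPullback.of_id_fst
      obtain ⟨β, hβ, hac⟩ := isAcyclicN_specOf hf0 x (by rw [← hx]; exact hz) R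
      refine (EtpbcB.PBCVan.van_comp sq (Hens2.specOf X₁ x R) (spm β) hβ.symm G q).2 ?_
      exact GeomFibL.van_l (spm β) hac hℓ hℓL hΩ g G hG q hq hqn
  have hqc : QuasiCompact h := MorphismProperty.of_isPullback sq inferInstance
  have hqs : QuasiSeparated h := MorphismProperty.of_isPullback sq inferInstance
  obtain ⟨i⟩ := Groth.Agent.S0620.result h ((EtCoh.pull e).obj G) x R q
  have h5 : IsZero ((EtCoh.stalk (Hens2.geomPt X₁ x R)).obj
      ((EtCoh.Rpush h q).obj ((EtCoh.pull e).obj G))) := by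
    refine IsZero.of_iso ?_ i
    exact @AddCommGrpCat.isZero_of_subsingleton _ hv
  exact EtpbcB.GeomPt.isZero_stalk_of_eq (Hens2.geomPt X₁ x R) z _
    (by rw [EtpbcB.PBCVan.geomPt_default, hx]) h5

/-- The truncated point case for all strictly henselian base changes. -/
theorem pointCaseN {X S : Scheme.{u}} {f : X ⟶ S} {L : Set ℕ} {n : ℕ}
    (hf : EtAcyc.IsULocAcyclicN f L n) {ℓ : ℕ} (hℓ : ℓ.Prime) (hℓL : ℓ ∈ L) :
    RedMainN.PointCaseN ℓ n f :=
  fun _ _ _ _ _ _ _ _ sq => pointAcyclicN (isULocAcyclicN_of_isPullback hf sq) hℓ hℓL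

end Groth.Agent.Etbc.H187.GeomFibAll
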