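import Groth.Agent.Etbc.H187.CompAcycN
import Groth.Agent.EtpbcB.RedCore

/-!
# Truncated reduction of base change to the point case: schemes of points

Truncated (degrees `1 ≤ q ≤ n`) versions of the statements of `EtpbcB.RedCore`.
-/

set_option autoImplicit false
universe u

open CategoryTheory CategoryTheory.Limits AlgebraicGeometry Opposite IsLocalRing
open Groth.Agent.EtpbcB
open Groth.Agent.EtpbcB.PBCVan Groth.Agent.EtpbcB.RedVan Groth.Agent.EtpbcB.RedPts
open Groth.Agent.EtpbcB.NKill Groth.Agent.EtpbcB.NKillEt Groth.Agent.EtpbcB.Acyc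
open Groth.Agent.EtpbcB.Red Groth.Agent.Etbc.H187.CompAcycN

namespace Groth.Agent.Etbc.H187.RedCoreN

variable {X₁ S₁ T Y : Scheme.{u}} {f₁ : X₁ ⟶ S₁} {g : T ⟶ S₁} {h : Y ⟶ X₁} {e : Y ⟶ T}

/-- Higher direct images along a composition, in degrees `≤ n`, on sheaves whose higher direct
images along the first morphism vanish in degrees `1 ≤ j ≤ n`. -/
theorem nonempty_Rpush_comp {Z : Scheme.{u}} (a : T ⟶ Y) (c : Y ⟶ Z) (K : EtCoh.Ab T) {n : ℕ}
    (hK : AcyclicN (EtCoh.push a) n K) (q : ℕ) (hq : q ≤ n) :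
    Nonempty ((EtCoh.Rpush c q).obj ((EtCoh.push a).obj K) ≅ (EtCoh.Rpush (a ≫ c) q).obj K) := by
  obtain ⟨i⟩ := comp_acyclicN (EtCoh.push a) (EtCoh.push c)
    (fun I hI => by
      have := injective_push a I
      exact acyclic_of_injective _ _) q n K hK hq
  exact ⟨i ≪≫ (ExtRightDerived.rightDerivedIso (EtCoh.pushComp c a) q).app K⟩

/-- Cohomology of the direct image of a sheaf, in degrees `≤ n`. -/
theorem nonempty_H_push (a : T ⟶ Y) (K : EtCoh.Ab T) {n : ℕ} (hK : AcyclicN (EtCoh.push a) n K)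
    (q : ℕ) (hq : q ≤ n) :
    Nonempty (EtCoh.H Y ((EtCoh.push a).obj K) q ≃+ EtCoh.H T K q) := by
  obtain ⟨e1⟩ := GammaRpush.H_rightDerived Y ((EtCoh.push a).obj K) q
  obtain ⟨e2⟩ := GammaRpush.H_rightDerived T K q
  obtain ⟨i⟩ := comp_acyclicN (EtCoh.push a) (SepClosedPoint.Γtop Y)
    (fun I hI => by
      have := injective_push a I
      exact acyclic_of_injective _ _) q n K hK hq
  exact ⟨e1.trans ((i ≪≫ (ExtRightDerived.rightDerivedIso (SepClosedPoint.gammaPush a)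
    q).app K).addCommGroupIsoToAddEquiv.trans e2.symm)⟩

/-- The truncated point case at `z`: for `X₁ ⟶ Spec A` and all geometric points `Spec Ω ⟶ Spec A`,
the stalk at `z` of `R^q h_* G`, `h : X₁ ×_A Ω ⟶ X₁`, vanishes for `1 ≤ q ≤ n`. -/
def PointAcyclicN (ℓ n : ℕ) {X₁ : Scheme.{u}} {A : Type u} [CommRing A] [IsLocalRing A]
    (f₁ : X₁ ⟶ Spec (CommRingCat.of A)) : Prop :=
  ∀ (Ω : Type u) [Field Ω] [IsAlgClosed Ω] (g : Spec (CommRingCat.of Ω) ⟶ Spec (CommRingCat.of A))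
    {Y : Scheme.{u}} (h : Y ⟶ X₁) (e : Y ⟶ Spec (CommRingCat.of Ω)) (_ : IsPullback e h g f₁)
    (G : EtCoh.Ab (Spec (CommRingCat.of Ω))), EtCoh.KilledBy ℓ G → ∀ (q : ℕ), 0 < q → q ≤ n →
    ∀ (k : Type u) [Field k] [IsSepClosed k] (z : Spec (CommRingCat.of k) ⟶ X₁),
      f₁ (z default) = closedPoint A →
      IsZero ((EtCoh.stalk z).obj ((EtCoh.Rpush h q).obj ((EtCoh.pull e).obj G)))

theorem PointAcyclicN.mono {ℓ m n : ℕ} (hmn : m ≤ n) {A : Type u} [CommRing A] [IsLocalRing A]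
    {f₁ : X₁ ⟶ Spec (CommRingCat.of A)} (h : PointAcyclicN ℓ n f₁) : PointAcyclicN ℓ m f₁ :=
  fun Ω _ _ g _ h' e sq G hG q hq hqm k _ _ z hz =>
    h Ω g h' e sq G hG q hq (hqm.trans hmn) k z hz

/-- The case of a product of points over a strictly henselian local base. -/
theorem van_of_isPts {ℓ n : ℕ} {A : Type u} [CommRing A] [IsLocalRing A]
    {f₁ : X₁ ⟶ Spec (CommRingCat.of A)} (hpt : PointAcyclicN ℓ n f₁) (hT : IsPts T)
    (g : T ⟶ Spec (CommRingCat.of A)) (G : EtCoh.Ab T) (hG : EtCoh.KilledBy ℓ G)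
    (x : X₁) (hx : f₁ x = closedPoint A)
    (R : Type u) [CommRing R] [IsLocalRing R]
    [Algebra (X₁.presheaf.stalk x) R] [IsLocalHom (algebraMap (X₁.presheaf.stalk x) R)]
    [Hensel.IsStrictHenselization (X₁.presheaf.stalk x) R] (q : ℕ) (hq : 0 < q) (hqn : q ≤ n) :
    Van g (Hens2.specOf X₁ x R ≫ f₁) G q := by
  set t := Hens2.specOf X₁ x R ≫ f₁ with ht
  have hsep : IsSepClosed (ResidueField R) :=
    (Hensel.IsStrictHenselization.isSepClosure (R := X₁.presheaf.stalk x) (S := R)).sep_closed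
  have := hT.affine
  have hacyc : AcyclicN (EtCoh.push (pullback.fst g t)) n
      ((EtCoh.pull (pullback.fst g t)).obj G) := by
    intro j hj hjn
    refine isZero_Rpush_of_exists_van (pullback.fst g t) _ j fun s => ?_
    obtain ⟨Ω, _, _, _, _, hΩ⟩ := hT.exists_strictHens s
    refine ⟨Ω, inferInstance, inferInstance, inferInstance, inferInstance, hΩ, ?_⟩
    refine van_swap (IsPullback.of_hasPullback g t) (Hens2.specOf T s Ω) G j ?_
    set ω := Hens2.specOf T s Ω
    have sq := IsPullback.of_hasPullback (ω ≫ g) f₁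
    refine (van_comp sq (Hens2.specOf X₁ x R) t rfl _ j).1 ?_
    have h0 := hpt Ω (ω ≫ g) _ _ sq ((EtCoh.pull ω).obj G) (killedBy_pull ω hG) j hj hjn _
      (Hens2.geomPt X₁ x R) (by rw [geomPt_default]; exact hx)
    obtain ⟨e⟩ := S0620.result (pullback.snd (ω ≫ g) f₁)
      ((EtCoh.pull (pullback.fst (ω ≫ g) f₁)).obj ((EtCoh.pull ω).obj G)) x R j
    exact AddCommGrpCat.subsingleton_of_isZero (h0.of_iso e.symm)
  obtain ⟨e⟩ := nonempty_H_push (pullback.fst g t) _ hacyc q hqn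
  have h1 : Subsingleton (EtCoh.H T ((EtCoh.push (pullback.fst g t)).obj
      ((EtCoh.pull (pullback.fst g t)).obj G)) q) :=
    S0088.result T hT.closed (fun s => by
      have := hT.algClosed s
      infer_instance) _ q hq
  exact e.toEquiv.subsingleton_congr.1 h1

/-- The case of a product of points over an arbitrary base. -/
theorem vanPt_of_isPts {ℓ n : ℕ} (f₁ : X₁ ⟶ S₁)
    (hpt : ∀ (A : Type u) [CommRing A] [HenselianLocalRing A] [IsSepClosed (ResidueField A)]
      (b : Spec (CommRingCat.of A) ⟶ S₁) {X₂ : Scheme.{u}} (p : X₂ ⟶ X₁)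
      (f₂ : X₂ ⟶ Spec (CommRingCat.of A)), IsPullback p f₂ f₁ b → PointAcyclicN ℓ n f₂)
    (hT : IsPts T) (g : T ⟶ S₁) [QuasiCompact g] (G : EtCoh.Ab T) (hG : EtCoh.KilledBy ℓ G)
    (q : ℕ) (hq : 0 < q) (hqn : q ≤ n) (x : X₁) : VanPt f₁ g G q x := by
  obtain ⟨A, _, _, _, _, hA⟩ := S0537.result (S₁.presheaf.stalk (f₁ x))
  have hsep : IsSepClosed (ResidueField A) := hA.isSepClosure.sep_closed
  have hhens : HenselianLocalRing A := hA.henselian
  have hwe : WeaklyEtale (Hens2.specOf S₁ (f₁ x) A) := S0754.result S₁ (f₁ x) A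
  set b := Hens2.specOf S₁ (f₁ x) A with hb
  obtain ⟨z, hz1, hz2⟩ := Scheme.Pullback.exists_preimage_pullback (f := f₁) (g := b) x
    (closedPoint A) (specOf_closedPoint (f₁ x) A).symm
  have haff : IsAffineHom g := hT.isAffineHom g
  have hT'' : IsPts (pullback g b) :=
    hT.of_weaklyEtale (pullback.fst g b) (isAffine_of_isAffineHom (pullback.snd g b))
  have h1 : VanPt (pullback.snd f₁ b) (pullback.snd g b) ((EtCoh.pull (pullback.fst g b)).obj G) q
      z := by
    obtain ⟨R, i1, i2, i3, i4, hR⟩ := S0537.result ((pullback f₁ b).presheaf.stalk z)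
    exact ⟨R, i1, i2, i3, i4, hR, van_of_isPts
      (hpt A b (pullback.fst f₁ b) (pullback.snd f₁ b) (IsPullback.of_hasPullback f₁ b)) hT''
      (pullback.snd g b) _ (killedBy_pull _ hG) z hz2 R q hq hqn⟩
  have h2 := vanPt_localize (p := pullback.fst f₁ b) pullback.condition
    (IsPullback.of_hasPullback g b) G q z h1
  rwa [hz1] at h2

end Groth.Agent.Etbc.H187.RedCoreN
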