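import Groth.Agent.Etbc.H187.PI
import Groth.Agent.Etbc.H187.RedCoreN
import Groth.Agent.Etbc.H188.ZDBase

/-!
# Geometric fibres of strict localizations: the case of the characteristic

`f₁ : X₁ ⟶ S` universally locally `n`-acyclic for `L`, `n ≥ 1`, `p ∈ L`, `Ω` algebraically closed of
characteristic `p`, `W` an affine scheme weakly étale over `X₁ ×_S Spec Ω`: the points of `W` are
closed with residue field `Ω`, and so its cohomology vanishes in positive degrees.
-/

set_option autoImplicit false
universe u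
open CategoryTheory CategoryTheory.Limits AlgebraicGeometry Opposite IsLocalRing

namespace Groth.Agent.Etbc.H187.GeomFibP

open Groth.Agent.Etrest.StrictLoc Groth.Agent.Etbc.H188

/-- The structure map of a residue field of a scheme over a field. -/
noncomputable def rho {X : Scheme.{u}} {k : Type u} [Field k] (π : X ⟶ Spec (CommRingCat.of k))
    (x : X) : k →+* X.residueField x := (Spec.preimage (X.fromSpecResidueField x ≫ π)).hom

theorem spec_rho {X : Scheme.{u}} {k : Type u} [Field k] (π : X ⟶ Spec (CommRingCat.of k))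
    (x : X) : Spec.map (CommRingCat.ofHom (rho π x)) = X.fromSpecResidueField x ≫ π :=
  Spec.map_preimage _

theorem rho_comp {X Y : Scheme.{u}} {k : Type u} [Field k] (q : X ⟶ Y)
    (π : Y ⟶ Spec (CommRingCat.of k)) (x : X) :
    rho (q ≫ π) x = (q.residueFieldMap x).hom.comp (rho π (q x)) := by
  have h1 : Spec.map (CommRingCat.ofHom (rho (q ≫ π) x)) =
      Spec.map (CommRingCat.ofHom ((q.residueFieldMap x).hom.comp (rho π (q x)))) := by
    rw [spec_rho, CommRingCat.ofHom_comp, Spec.map_comp, spec_rho]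
    have h2 := Scheme.Hom.SpecMap_residueFieldMap_fromSpecResidueField q x
    rw [← Category.assoc, ← h2, Category.assoc]
    rfl
  exact congrArg CommRingCat.Hom.hom (Spec.map_injective h1)

/-- The residue fields of a scheme weakly étale over one with trivial residue fields. -/
theorem surjective_rho {X Y : Scheme.{u}} {k : Type u} [Field k] [IsAlgClosed k] (q : X ⟶ Y)
    [WeaklyEtale q] (π : Y ⟶ Spec (CommRingCat.of k))
    (h : ∀ y : Y, Function.Surjective (rho π y)) (x : X) :
    Function.Surjective (rho (q ≫ π) x) := by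
  have h1 : ZDBase.AlgF (rho (q ≫ π) x) := by
    rw [rho_comp]
    exact (ZDBase.AlgF.of_bijective (h (q x))).comp (ZDBase.algRes_of_weaklyEtale q x)
  let _ := (rho (q ≫ π) x).toAlgebra
  have h2 : Algebra.IsAlgebraic k (X.residueField x) := h1
  have h3 : Algebra.IsIntegral k (X.residueField x) := inferInstance
  exact (IsAlgClosed.algebraMap_bijective_of_isIntegral (k := k) (K := X.residueField x)).2

/-- Points of an affine scheme over a field `k` all of whose residue fields are `k`. -/
theorem isClosed_singleton {X : Scheme.{u}} [IsAffine X] {k : Type u} [Field k]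
    (π : X ⟶ Spec (CommRingCat.of k)) (h : ∀ x : X, Function.Surjective (rho π x)) (x : X) :
    IsClosed ({x} : Set X) := by
  let γ : k →+* Γ(X, ⊤) := π.appTop.hom.comp (Scheme.ΓSpecIso (CommRingCat.of k)).inv.hom
  have hγ : ∀ (z : X) (c : k), X.evaluation ⊤ z trivial (γ c) = rho π z c := by
    intro z c
    have h1 : X.fromSpecResidueField z ≫ X.toSpecΓ = Spec.map (X.evaluation ⊤ z trivial) := by
      unfold Scheme.fromSpecResidueField
      rw [Category.assoc, Scheme.fromSpecStalk_toSpecΓ, ← Spec.map_comp]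
      rfl
    have h2 : X.toSpecΓ ≫ Spec.map (CommRingCat.ofHom γ) = π := by
      have h3 := Scheme.toSpecΓ_naturality π
      have h4 : Spec.map (Scheme.ΓSpecIso (CommRingCat.of k)).hom =
        (Spec (CommRingCat.of k)).toSpecΓ := SpecMap_ΓSpecIso_hom _
      have h5 : Spec.map (CommRingCat.ofHom γ) =
          Spec.map π.appTop ≫ Spec.map (Scheme.ΓSpecIso (CommRingCat.of k)).inv := by
        rw [← Spec.map_comp]
        rfl
      rw [h5, ← Category.assoc, ← h3, Category.assoc, ← h4, ← Spec.map_comp, Iso.inv_hom_id,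
        Spec.map_id, Category.comp_id]
    have h3 : Spec.map (CommRingCat.ofHom (rho π z)) =
        Spec.map (CommRingCat.ofHom ((X.evaluation ⊤ z trivial).hom.comp γ)) := by
      rw [spec_rho, CommRingCat.ofHom_comp, Spec.map_comp]
      refine Eq.trans ?_ (congrArg (fun t => t ≫ Spec.map (CommRingCat.ofHom γ)) h1)
      rw [Category.assoc, h2]
    have h4 := congrArg (fun t => t.hom c) (Spec.map_injective h3)
    exact h4.symm
  have hz : ∀ (z : X) (f : Γ(X, ⊤)), z ∈ X.basicOpen f ↔ X.evaluation ⊤ z trivial f ≠ 0 :=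
    fun z f => (X.evaluation_ne_zero_iff_mem_basicOpen (U := ⊤) z trivial f).symm
  have key : ∀ y : X, x ⤳ y → x = y := by
    intro y hxy
    have h1 : ∀ f : Γ(X, ⊤), x ∈ X.basicOpen f → y ∈ X.basicOpen f := by
      intro f hx
      obtain ⟨c, hc⟩ := h x (X.evaluation ⊤ x trivial f)
      have h2 : x ∉ X.basicOpen (f - γ c) := by
        rw [hz, not_not, map_sub, hγ, hc, sub_self]
      have h3 : y ∉ X.basicOpen (f - γ c) := fun hy => h2 (hxy.mem_open (X.basicOpen _).2 hy)
      rw [hz, not_not, map_sub, hγ, sub_eq_zero] at h3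
      rw [hz, h3]
      rw [hz, ← hc] at hx
      have hc0 : c ≠ 0 := fun h0 => hx (by rw [h0, map_zero])
      exact fun h0 => hc0 ((RingHom.injective (rho π y)) (by rw [h0, map_zero]))
    have h2 : y ⤳ x := by
      rw [specializes_iff_forall_open]
      intro U hU hxU
      obtain ⟨_, ⟨_, ⟨f, rfl⟩, rfl⟩, hx, hf⟩ :=
        (isBasis_basicOpen X).exists_subset_of_mem_open hxU hU
      exact hf (h1 f hx)
    exact (hxy.antisymm h2).eq
  rw [← closure_subset_iff_isClosed]
  intro y hy
  exact (key y (specializes_iff_mem_closure.2 hy)).symm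

theorem subsingleton_H {X : Scheme.{u}} [IsAffine X] {k : Type u} [Field k] [IsAlgClosed k]
    (π : X ⟶ Spec (CommRingCat.of k)) (h : ∀ x : X, Function.Surjective (rho π x))
    (F : EtCoh.Ab X) (q : ℕ) (hq : 0 < q) : Subsingleton (EtCoh.H X F q) := by
  refine Groth.Agent.S0088.result X (isClosed_singleton π h) (fun x => ?_) F q hq
  exact ZDBase.isSepClosed_of_bijective (rho π x) ⟨RingHom.injective _, h x⟩

/-- The case of the characteristic. -/
theorem van_p {X₁ S : Scheme.{u}} [IsAffine S] {f₁ : X₁ ⟶ S} {L : Set ℕ} {n : ℕ}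
    (hf : EtAcyc.IsULocAcyclicN f₁ L n) (hn : 1 ≤ n) (p : ℕ) [Fact p.Prime] (hpL : p ∈ L)
    {Ω : Type u} [Field Ω] [IsAlgClosed Ω] [CharP Ω p] (g : Spec (CommRingCat.of Ω) ⟶ S)
    {Y : Scheme.{u}} (h : Y ⟶ X₁) (e : Y ⟶ Spec (CommRingCat.of Ω)) (sq : IsPullback e h g f₁)
    {T : Scheme.{u}} [IsAffine T] (t : T ⟶ X₁) [WeaklyEtale t] (G : EtCoh.Ab Y) (q : ℕ)
    (hq : 0 < q) : EtpbcB.PBCVan.Van h t G q := by
  have h1 : ∀ y : Y, Function.Surjective (rho e y) := fun y =>
    PI.surjective_residue hf hn p hpL g h e sq.flip y (rho e y) (spec_rho e y)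
  have sq2 := IsPullback.of_hasPullback h t
  have haff : IsAffine (pullback h t) := by
    have sq3 := (sq2.flip.paste_vert sq.flip).flip
    exact IsAffine.of_isIso sq3.isoPullback.hom
  exact subsingleton_H (pullback.fst h t ≫ e) (surjective_rho (pullback.fst h t) e h1) _ q hq

end Groth.Agent.Etbc.H187.GeomFibP
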