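import Groth.Agent.EtpbcB.TorsVanN

/-! Fixed-degree versions of the vanishing statements of `EtpbcB.TorsVanN`: vanishing in ONE degree `q`
for `torsN N J` from the vanishing in the SAME degree for `J[l]`, `l ∈ N` prime. -/

set_option autoImplicit false
universe u

open CategoryTheory CategoryTheory.Limits AlgebraicGeometry Opposite
open Groth.Agent.EtpbcB
open Groth.Agent.EtpbcB.NKill Groth.Agent.EtpbcB.NKillEt Groth.Agent.EtpbcB.NKillH
  Groth.Agent.EtpbcB.TorsSubN Groth.Agent.EtpbcB.TorsEtN Groth.Agent.EtpbcB.TorsVan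
  Groth.Agent.EtpbcB.Acyc

namespace Groth.Agent.Etbc.H187.TorsVanQ

variable {X Y X₀ : Scheme.{u}}

theorem H_pull_tor_of_mem {N : Set ℕ} (hN : IsOrd N) (i : X₀ ⟶ X) (J : EtCoh.Ab X) [Injective J]
    (q : ℕ) (h : ∀ l : ℕ, l.Prime → l ∈ N →
      Subsingleton (EtCoh.H X₀ ((EtCoh.pull i).obj (tor l J)) q)) {n : ℕ} (hn : n ∈ N) :
    Subsingleton (EtCoh.H X₀ ((EtCoh.pull i).obj (tor n J)) q) := by
  refine tor_induction_dvd (fun Z => Subsingleton (EtCoh.H X₀ ((EtCoh.pull i).obj Z) q)) J n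
    (hN.pos hn) (fun l hl _ => epi_nsmul J hl.pos) ?_ ?_
    (fun l hl hln => h l hl (hN.of_dvd hln hn))
  · intro Z hZ
    exact Sheaf.subsingleton_H_of_isZero ((EtCoh.pull i).map_isZero hZ) q
  · intro S hS h₁ h₃
    exact H_subsingleton_mid (hS.map_of_exact (EtCoh.pull i)) q h₁ h₃

/-- If all `J[l]`, `l ∈ N` prime, have no cohomology in degree `q` on the qcqs `X₀` then so does
`torsN N J`. -/
theorem H_pull_torsN {N : Set ℕ} (hN : IsOrd N) (i : X₀ ⟶ X) [CompactSpace X₀]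
    [QuasiSeparatedSpace X₀] (J : EtCoh.Ab X) [Injective J] (q : ℕ)
    (h : ∀ l : ℕ, l.Prime → l ∈ N →
      Subsingleton (EtCoh.H X₀ ((EtCoh.pull i).obj (tor l J)) q)) :
    Subsingleton (EtCoh.H X₀ ((EtCoh.pull i).obj (torsN N J)) q) := by
  rw [← isZero_HF_iff]
  have := preservesNat_HF X₀ q
  refine isZero_torsN hN (EtCoh.pull i ⋙ EtCoh.HF X₀ q) J (fun n hn => ?_)
  exact (isZero_HF_iff _ q).2 (H_pull_tor_of_mem hN i J q h hn)

/-- Vanishing of the `q`-th higher direct image of `p^{-1} torsN N J` from the case of `p^{-1} J[l]`,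
`l ∈ N` prime. -/
theorem isZero_Rpush_pull_torsN {N : Set ℕ} (hN : IsOrd N) {X' Y' : Scheme.{u}} (f' : X' ⟶ Y')
    [QuasiCompact f'] [QuasiSeparated f'] (p : X' ⟶ X) (J : EtCoh.Ab X) [Injective J] (q : ℕ)
    (h : ∀ l : ℕ, l.Prime → l ∈ N →
      IsZero ((EtCoh.Rpush f' q).obj ((EtCoh.pull p).obj (tor l J)))) :
    IsZero ((EtCoh.Rpush f' q).obj ((EtCoh.pull p).obj (torsN N J))) := by
  refine PBCVan.isZero_Rpush_of_van f' _ q (fun s R _ _ _ _ _ _ _ => ?_)
  have hc := compactSpace_pullback f' (Hens2.specOf Y' s R)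
  have hqs := quasiSeparatedSpace_pullback f' (Hens2.specOf Y' s R)
  have key := fun (G : EtCoh.Ab X) (r : ℕ) => (IsoTransport.HPullComp
    (pullback.fst f' (Hens2.specOf Y' s R)) p _ rfl G r).toEquiv.subsingleton_congr
  refine (key _ _).1 (H_pull_torsN hN _ J q (fun l hl hlN => ?_))
  exact (key _ _).2 (PBCVan.van_of_isZero_Rpush f' _ q (h l hl hlN) s R)

/-- The same, with the vanishing for sheaves `I` killed by `l` and injective among those. -/
theorem isZero_Rpush_pull_torsN_of_nInj {N : Set ℕ} (hN : IsOrd N) {X' Y' : Scheme.{u}}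
    (f' : X' ⟶ Y') [QuasiCompact f'] [QuasiSeparated f'] (p : X' ⟶ X) (J : EtCoh.Ab X)
    [Injective J] (q : ℕ)
    (h : ∀ l : ℕ, l.Prime → l ∈ N → ∀ I : EtCoh.Ab X, EtCoh.KilledBy l I → NInj l I →
      IsZero ((EtCoh.Rpush f' q).obj ((EtCoh.pull p).obj I))) :
    IsZero ((EtCoh.Rpush f' q).obj ((EtCoh.pull p).obj (torsN N J))) :=
  isZero_Rpush_pull_torsN hN f' p J q
    (fun l hl hlN => h l hl hlN _ ((killedBy_iff l _).2 (killed_tor l J)) (nInj_tor l J))

end Groth.Agent.Etbc.H187.TorsVanQ
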