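import Groth.Agent.Etbc.H183.LTors
import Groth.Agent.Etbc.H183.ZeroOfN
import Groth.Agent.Etbc.H185.BcRangeEt
import Groth.Agent.Etbc.H187.BCStrictAb
import Groth.Agent.Etbc.H187.GeomFibAll
import Groth.Agent.Etbc.H187.TorsVanQ

/-!
# Base change by universally locally `n`-acyclic morphisms

`bcMap_range`: for a cartesian square on `f` quasi-compact quasi-separated and `g` universally locally
`n`-acyclic for `L`, and an `L`-torsion sheaf `F`, the base change map
`H^q(g⁻¹ Rf_* F) ⟶ H^q(Rf'_* g'⁻¹ F)` is an isomorphism for `q ≤ n` and a monomorphism for `q = n + 1`.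
-/

set_option autoImplicit false
universe u
open CategoryTheory CategoryTheory.Limits AlgebraicGeometry Opposite
attribute [local instance] HasDerivedCategory.standard

namespace Groth.Agent.Etbc.H187.Main

open Groth.Agent.EtpbcB Groth.Agent.EtpbcB.TorsSubN Groth.Agent.EtpbcB.TorsEtN
  Groth.Agent.Etbc.H183.LTors

variable {X Y X' Y' : Scheme.{u}} {f : X ⟶ Y} {g : Y' ⟶ Y} {f' : X' ⟶ Y'} {g' : X' ⟶ X}
  {L : Set ℕ} {n : ℕ}

/-- Degree zero. -/
theorem isIso_baseChange0 (hL : ∃ l ∈ L, l.Prime) (hg : EtAcyc.IsULocAcyclicN g L n)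
    (h : IsPullback g' f' f g) [QuasiCompact f] [QuasiSeparated f] (F : EtCoh.Ab X) :
    IsIso (EtCoh.baseChange0 f g f' g' h.w F) :=
  BCStrictAb.isIso_baseChange0_of_strict h
    (fun Ω _ _ ξ => H183.ZeroOfN.isUnivSubmersive_psi g hL hg ξ)
    (fun Ω _ _ ξ Ω' _ _ η => by
      have h1 := H183.ZeroOfN.sepGeomConnected_psi g hL hg ξ Ω' η
      exact (Scheme.homeoOfIso (pullbackSymmetry η (Psi.psi g ξ))).surjective.connectedSpace
        (Scheme.homeoOfIso (pullbackSymmetry η (Psi.psi g ξ))).continuous) F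

/-- Positive degrees. -/
theorem isZero_Rpush (hL : ∃ l ∈ L, l.Prime) (hg : EtAcyc.IsULocAcyclicN g L n)
    (h : IsPullback g' f' f g) [QuasiCompact f] [QuasiSeparated f] (J : EtCoh.Ab X) [Injective J]
    (q : ℕ) (hq : 1 ≤ q) (hqn : q ≤ n) :
    IsZero ((EtCoh.Rpush f' q).obj ((EtCoh.pull g').obj (torsN (ord L) J))) := by
  have hQ1 : QuasiCompact f' := MorphismProperty.of_isPullback h inferInstance
  have hQ2 : QuasiSeparated f' := MorphismProperty.of_isPullback h inferInstance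
  refine TorsVanQ.isZero_Rpush_pull_torsN_of_nInj (isOrd L) f' g' J q
    (fun l hl hlN I hI hI' => ?_)
  have hlL : l ∈ L := (prime_mem_ord hl).1 hlN
  exact RedMainN.isZero_Rpush_of_baseChanges (n := n) g
    (fun {X₁ S₁} f₁ a b sq => by
      intro T Y g₁ _ _ h₁ e₁ sq₁ G _
      exact isIso_baseChange0 hL (GeomFibAll.isULocAcyclicN_of_isPullback hg sq) sq₁ G)
    (fun A _ _ _ X₁ b a f₁ sq => GeomFibAll.pointAcyclicN
      (GeomFibAll.isULocAcyclicN_of_isPullback hg sq) hl hlL)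
    g (𝟙 _) (𝟙 _) IsPullback.of_id_fst f f' g' h I hI hI' q hq hqn

/-- An `L`-torsion sheaf is zero if `L` contains no prime. -/
theorem isZero_of_isLTorsion (hL : ¬ ∃ l ∈ L, l.Prime) (F : EtCoh.Ab X)
    (hF : EtAcyc.IsLTorsion L F) : IsZero F := by
  have key : ∀ m : ℕ, EtAcyc.PrimesIn L m → m = 1 := by
    intro m hm
    by_contra h1
    obtain ⟨p, hp, hpm⟩ := Nat.exists_prime_and_dvd h1
    exact hL ⟨p, hm.2 p hp hpm, hp⟩
  refine Etcore.Stalks.isZero_of_stalks F fun x => ?_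
  obtain ⟨Ω, _, _, ξ, hξ⟩ := Etcore.Stalks.exists_geom x
  refine ⟨Ω, inferInstance, inferInstance, ξ, hξ, ?_⟩
  have h1 : ∀ t : (EtCoh.stalk ξ).obj F, t = 0 := by
    intro t
    obtain ⟨m, hm, hmt⟩ := (isLTorsion_iff_stalk F).1 hF Ω ξ t
    rwa [key m hm, one_smul] at hmt
  have : Subsingleton ((EtCoh.stalk ξ).obj F) := ⟨fun a b => by rw [h1 a, h1 b]⟩
  exact AddCommGrpCat.isZero_of_subsingleton _

theorem isIso_of_isZero {C : Type*} [Category* C] {A B : C} (hA : IsZero A) (hB : IsZero B)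
    (φ : A ⟶ B) : IsIso φ :=
  ⟨hB.to_ A, hA.eq_of_src _ _, hB.eq_of_tgt _ _⟩

/-- **Base change by universally locally `n`-acyclic morphisms.** -/
theorem bcMap_range (h : IsPullback g' f' f g) [QuasiCompact f] [QuasiSeparated f]
    (hg : EtAcyc.IsULocAcyclicN g L n)
    [PreservesFiniteLimits (EtCoh.pull g)] [PreservesFiniteLimits (EtCoh.pull g')]
    [DCoh.HasRpushEt X f] [DCoh.HasRpushEt X' f'] [DCoh.HasRpushEt Y' g]
    (adj : EtBC.pullD g ⊣ DCoh.RpushEt Y' g) (F : EtCoh.Ab X) (hF : EtAcyc.IsLTorsion L F) :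
    (∀ q : ℤ, q ≤ n → IsIso ((DerivedCategory.homologyFunctor (EtCoh.Ab Y') q).map
      (EtBC.bcMap f g f' g' h.w adj (EtBC.single X F)))) ∧
    Mono ((DerivedCategory.homologyFunctor (EtCoh.Ab Y') ((n : ℤ) + 1)).map
      (EtBC.bcMap f g f' g' h.w adj (EtBC.single X F))) := by
  refine H185.BcRangeEt.bcMap_range f g f' g' h.w (isOrd L) n ?_ ?_ adj F hF
  · intro J hJ
    by_cases hL : ∃ l ∈ L, l.Prime
    · exact isIso_baseChange0 hL hg h _
    · have hz : IsZero (torsN (ord L) J) :=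
        isZero_of_isLTorsion hL _ (torsionN_torsN (isOrd L) J)
      exact isIso_of_isZero ((EtCoh.pull g).map_isZero ((EtCoh.push f).map_isZero hz))
        ((EtCoh.push f').map_isZero ((EtCoh.pull g').map_isZero hz)) _
  · intro J hJ q hq hqn
    by_cases hL : ∃ l ∈ L, l.Prime
    · exact isZero_Rpush hL hg h J q hq hqn
    · have hz : IsZero (torsN (ord L) J) :=
        isZero_of_isLTorsion hL _ (torsionN_torsN (isOrd L) J)
      exact (EtCoh.Rpush f' q).map_isZero ((EtCoh.pull g').map_isZero hz)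

end Groth.Agent.Etbc.H187.Main
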